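import Cfsg.Agent.BZ.RT.Cx.Defs
import Cfsg.Agent.BZ.RT.C5S

/-!
# BZ / RT / Cx : the group needs two dimensions (helper88)
-/

set_option autoImplicit false
set_option linter.unusedSectionVars false

namespace Cfsg.Agent.BZ.RT.Cx

open Cfsg Matrix Cfsg.Agent.DL Cfsg.Agent.HZ.L Cfsg.Agent.BZ.TA Cfsg.Agent.BZ.TA.Cl Cfsg.Agent.OM.Cu Cfsg.Agent.OM Cfsg.Agent.BZ.RT.Z2

namespace Rk88

variable {I : Type} [Fintype I] [DecidableEq I] {C X : Mat I} {d : I → ℤ} {μ : Vec I} {G : Submonoid (Mat I)}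

theorem fm_eq (β γ : Vec I) : fm C d β γ = ∑ i, β i * d i * ((sp C i).1 ⬝ᵥ γ) :=
  Finset.sum_congr rfl fun _ _ => congrArg _ (dotProduct_comm _ _)

theorem fm_add (β γ γ' : Vec I) : fm C d β (γ + γ') = fm C d β γ + fm C d β γ' := by
  simp only [fm_eq, dotProduct_add, mul_add, Finset.sum_add_distrib]

theorem fm_zero (β : Vec I) : fm C d β 0 = 0 := by simp only [fm_eq, dotProduct_zero, mul_zero, Finset.sum_const_zero]

theorem zero_of (h : Car C d) {y : Vec I} (hy : ∀ i, (sp C i).1 ⬝ᵥ y = 0) : y = 0 := by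
  by_contra h0
  have h1 : 0 < fm C d y y := h.pos y h0
  simp only [fm_eq, hy, mul_zero, Finset.sum_const_zero, lt_irrefl] at h1

/-- the vectors which are orthogonal to the Levi subsystem -/
theorem perp_iff (h : Car C d) (hd : Dom C μ) {y : Vec I} : Perp (lev (Rc C) μ) y ↔ ∀ i, Jz C μ i → (sp C i).1 ⬝ᵥ y = 0 := by
  refine ⟨fun hy i hi => hy _ ⟨(boxRs C d h).mem i, hi⟩, fun hy a ha => ?_⟩
  obtain ⟨m, h1, h2⟩ := ParT.key h ha.1
  refine (mul_eq_zero.1 ((h2 y).trans (Finset.sum_eq_zero fun i _ => ?_))).resolve_left h1.ne'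
  by_cases hi : Jz C μ i
  · rw [hy i hi, mul_zero]
  · rw [(ParT.zero_iff h hd ha.1).1 ha.2 i hi, zero_mul, zero_mul]

/-- independent vectors -/
theorem le_co (h : Car C d) (hd : Dom C μ) {k : ℕ} (u : Fin k → Vec I) (hu : ∀ j, Perp (lev (Rc C) μ) (u j))
    (hi : ∀ c : Fin k → ℤ, ∑ j, c j • u j = 0 → ∀ j, c j = 0) : k ≤ co C μ := by
  classical
  have h1 : LinearIndependent ℤ fun j (i : {i // ¬ Jz C μ i}) => (sp C i).1 ⬝ᵥ u j :=
    Fintype.linearIndependent_iff.2 fun c hc => hi c (zero_of h fun i => by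
      rw [dotProduct_sum]
      by_cases h2 : Jz C μ i
      · exact Finset.sum_eq_zero fun j _ => by rw [dotProduct_smul, (perp_iff h hd).1 (hu j) i h2, smul_zero]
      · have h3 := congrFun hc ⟨i, h2⟩
        rw [Finset.sum_apply] at h3
        exact (Finset.sum_congr rfl fun j _ => dotProduct_smul _ _ _).trans h3)
  have h2 := h1.fintype_card_le_finrank
  rwa [Fintype.card_fin, Module.finrank_fintype_fun_eq_card, ← Nat.card_eq_fintype_card] at h2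

/-- an element of order three on the orthogonal space -/
theorem exists_g (h : Car C d) (H : Mg C μ X G) : ∃ g ∈ G, g *ᵥ μ ≠ μ ∧
    ∀ y, Perp (lev (Rc C) μ) y → Perp (lev (Rc C) μ) (g *ᵥ y) ∧ g *ᵥ (g *ᵥ (g *ᵥ y)) = y := by
  classical
  obtain ⟨g, h1, h2⟩ := H.ne
  have h3 := H.gl g h1
  obtain ⟨i, hi⟩ : ∃ i, Nat.find h3 = i + 1 := Nat.exists_eq_succ_of_ne_zero fun e => h2 (by
    have := Nat.find_spec h3
    rwa [e, pow_zero, pow_one] at this)
  have h4 := G.pow_mem h1 (3 ^ i)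
  refine ⟨_, h4, fun e => Nat.find_min h3 (hi ▸ i.lt_succ_self) (ParT.stab h H.dom (H.gw h4) e), fun y hy =>
    ⟨C5.perp (boxRs C d h) ((boxRs C d h).nm _ (H.gw h4)) (H.gn _ h4).1 hy, ?_⟩⟩
  rw [mulVec_mulVec, mulVec_mulVec, ← pow_three', ← pow_mul, ← pow_succ, ← hi]
  exact hy.fix (Nat.find_spec h3)

theorem two_three (h : Car C d) (hd : Dom C μ) {g : Mat I} (h1 : g *ᵥ μ ≠ μ)
    (h2 : ∀ y, Perp (lev (Rc C) μ) y → Perp (lev (Rc C) μ) (g *ᵥ y) ∧ g *ᵥ (g *ᵥ (g *ᵥ y)) = y) :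
    2 ≤ co C μ ∧ ∀ y, y ≠ 0 → Perp (lev (Rc C) μ) y → g *ᵥ y = y → 3 ≤ co C μ := by
  have p0 : Perp (lev (Rc C) μ) μ := fun a ha => ha.2
  obtain ⟨v, hv⟩ : ∃ v, v = g *ᵥ μ - μ := ⟨_, rfl⟩
  have p1 : Perp (lev (Rc C) μ) v := fun a ha => by rw [hv, dotProduct_sub, (h2 μ p0).1 a ha, p0 a ha, sub_zero]
  have h3 : g *ᵥ (g *ᵥ v) = -v - g *ᵥ v := by
    rw [hv, mulVec_sub, mulVec_sub, (h2 μ p0).2]
    abel
  have h4 : ∀ a b : ℤ, a • v + b • g *ᵥ v = 0 → a = 0 ∧ b = 0 := fun a b e => by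
    have e1 := congrArg (g *ᵥ ·) e
    simp only [mulVec_add, mulVec_smul, mulVec_zero, h3] at e1
    have e2 : (a ^ 2 - a * b + b ^ 2) • v = 0 := by
      rw [show (a ^ 2 - a * b + b ^ 2) • v = (a - b) • (a • v + b • g *ᵥ v) - b • (a • g *ᵥ v + b • (-v - g *ᵥ v)) by module, e, e1,
        smul_zero, smul_zero, sub_zero]
    have e3 := (smul_eq_zero.1 e2).resolve_right (hv ▸ sub_ne_zero.2 h1)
    constructor <;> nlinarith [sq_nonneg (a - b), sq_nonneg a, sq_nonneg b]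
  refine ⟨le_co h hd ![v, g *ᵥ v] (fun j => by fin_cases j; exacts [p1, (h2 v p1).1]) fun c hc j => ?_, fun y y0 y1 y2 =>
    le_co h hd ![y, v, g *ᵥ v] (fun j => by fin_cases j; exacts [y1, p1, (h2 v p1).1]) fun c hc j => ?_⟩
  · rw [Fin.sum_univ_two] at hc
    obtain ⟨e1, e2⟩ := h4 _ _ hc
    fin_cases j
    exacts [e1, e2]
  · rw [Fin.sum_univ_three] at hc
    change c 0 • y + c 1 • v + c 2 • g *ᵥ v = 0 at hc
    have e1 := congrArg (g *ᵥ ·) hc
    simp only [mulVec_add, mulVec_smul, mulVec_zero, h3, y2] at e1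
    have e2 := congrArg (g *ᵥ ·) e1
    simp only [mulVec_add, mulVec_smul, mulVec_zero, mulVec_sub, mulVec_neg, h3, y2] at e2
    have e3 : (3 * c 0) • y = 0 := by
      linear_combination (exp := 1) hc + e1 + e2
    have e4 : c 0 = 0 := by
      have := (smul_eq_zero.1 e3).resolve_right y0
      omega
    rw [e4, zero_smul, zero_add] at hc
    obtain ⟨e5, e6⟩ := h4 _ _ hc
    fin_cases j
    exacts [e4, e5, e6]

theorem co_one {a : I} (h : ∀ i, i ≠ a → Jz C μ i) : co C μ ≤ 1 :=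
  (Set.ncard_le_ncard (s := {i | ¬ Jz C μ i}) (t := {a}) (fun i (hi : ¬ Jz C μ i) => by_contra fun e => hi (h i e)) (Set.toFinite _)).trans (Set.ncard_singleton a).le

theorem co_two {a b : I} (h : ∀ i, i ≠ a → i ≠ b → Jz C μ i) : co C μ ≤ 2 :=
  (Set.ncard_le_ncard (s := {i | ¬ Jz C μ i}) (t := {a, b}) (fun i (hi : ¬ Jz C μ i) => by_contra fun e =>
    hi (h i (fun e' => e (Or.inl e')) fun e' => e (Or.inr e'))) (Set.toFinite _)).trans ((Set.ncard_insert_le _ _).trans (by rw [Set.ncard_singleton]))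

/-- **dimension two** : the orthogonal lattice is hexagonal -/
theorem par (h : Car C d) (H : Mg C μ X G) {a b : I} (hJ : ∀ i, i ≠ a → i ≠ b → Jz C μ i) (y : Vec I)
    (h0 : ∀ i, i ≠ a → i ≠ b → (sp C i).1 ⬝ᵥ y = 0) :
    ∃ z : Vec I, (∀ i, i ≠ a → i ≠ b → (sp C i).1 ⬝ᵥ z = 0) ∧ 2 * fm C d y z = -fm C d y y := by
  obtain ⟨g, h1, h2, h3⟩ := exists_g h H
  obtain ⟨h4, h5⟩ := two_three h H.dom h2 h3
  have R := boxRs C d h
  have p0 : Perp (lev (Rc C) μ) y := (perp_iff h H.dom).2 fun i hi => h0 i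
    (fun e => absurd (co_one (a := b) fun k hk => (em (k = a)).elim (fun e' => e' ▸ e ▸ hi) fun e' => hJ k e' hk) (by omega))
    fun e => absurd (co_one (a := a) fun k hk => (em (k = b)).elim (fun e' => e' ▸ e ▸ hi) fun e' => hJ k hk e') (by omega)
  have p1 := (h3 y p0).1
  have h6 : y + g *ᵥ y + g *ᵥ (g *ᵥ y) = 0 := by
    by_contra e
    refine absurd (h5 _ e (fun c hc => ?_) ?_) (by have := co_two hJ; omega)
    · rw [dotProduct_add, dotProduct_add, p0 c hc, p1 c hc, (h3 _ p1).1 c hc, add_zero, add_zero]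
    · rw [mulVec_add, mulVec_add, (h3 y p0).2]
      abel
  refine ⟨g *ᵥ y, fun i e e' => (perp_iff h H.dom).1 p1 i (hJ i e e'), ?_⟩
  have h7 := fm_zero (C := C) (d := d) y
  rw [← h6, fm_add, fm_add, ← R.iso g (H.gw h1) y (g *ᵥ (g *ᵥ y)), (h3 y p0).2, R.comm (g *ᵥ y) y] at h7
  omega

end Rk88

/-- **[Rk]** -/
theorem boxRk3 : BoxRk3 := fun _ _ _ _ _ h H =>
  let ⟨g, h1, h2, h3⟩ := Rk88.exists_g h H
  ⟨(Rk88.two_three h H.dom h2 h3).1, fun y y0 y1 y2 => (Rk88.two_three h H.dom h2 h3).2 y y0 y1 (y2 g h1)⟩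

end Cfsg.Agent.BZ.RT.Cx
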