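import Cfsg.Agent.BZ.RT.Cx.Defs

/-!
# BZ / RT : `boxAnI` (helper81)
-/

set_option autoImplicit false
set_option linter.unusedSectionVars false

namespace Cfsg.Agent.BZ.RT.Cx

open Cfsg Matrix Cfsg.Agent.DL Cfsg.Agent.HZ.L Cfsg.Agent.BZ.TA Cfsg.Agent.BZ.TA.Cl Cfsg.Agent.OM.Cu Cfsg.Agent.OM Cfsg.Agent.BZ.RT.Z2

namespace AnA

variable {I : Type} [Fintype I] [DecidableEq I] {C : Mat I} {d : I → ℤ}

/-- a matrix whose columns are a basis -/
theorem exists_basis (M : Submodule ℤ (Vec I)) : ∃ (m : ℕ) (P : Matrix I (Fin m) ℤ), (∀ u, P *ᵥ u = 0 → u = 0) ∧ (∀ u, P *ᵥ u ∈ M) ∧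
    ∀ v ∈ M, ∃ u, P *ᵥ u = v := by
  obtain ⟨m, b⟩ := Submodule.basisOfPid (Pi.basisFun ℤ I) M
  have e : ∀ u : Fin m → ℤ, (Matrix.of fun i j => (b j : Vec I) i) *ᵥ u = (b.equivFun.symm u : M) := fun u => by
    rw [Module.Basis.equivFun_symm_apply]
    funext i
    simp [mulVec, dotProduct, mul_comm]
  refine ⟨m, Matrix.of fun i j => (b j : Vec I) i, fun u hu => ?_, fun u => e u ▸ Subtype.prop _, fun v hv => ?_⟩
  · exact b.equivFun.symm.map_eq_zero_iff.1 (Subtype.ext ((e u).symm.trans hu))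
  · exact ⟨b.equivFun ⟨v, hv⟩, by rw [e, LinearEquiv.symm_apply_apply]⟩

/-- the matrix of the form -/
def nf (C : Mat I) (d : I → ℤ) : Mat I := Matrix.of fun i j => d i * C j i

theorem fm_nf (β γ : Vec I) : fm C d β γ = (β ᵥ* nf C d) ⬝ᵥ γ := by
  rw [← dotProduct_mulVec]
  simp only [fm, nf, vecMul, mulVec, dotProduct, of_apply, Finset.mul_sum]
  exact Finset.sum_congr rfl fun _ _ => Finset.sum_congr rfl fun _ _ => by ring

theorem ev_span (H : Rs C d) {L : RS I} (hL : L ⊆ Rc C) {y : I → ℂ} (h : ∀ a ∈ L, ev a.1 y = 0) {β : Vec I}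
    (hβ : β ∈ Submodule.span ℤ (Prod.snd '' L)) : ev (β ᵥ* nf C d) y = 0 := by
  induction hβ using Submodule.span_induction with
  | mem x hx =>
    obtain ⟨a, ha, rfl⟩ := hx
    obtain ⟨m, -, h1⟩ := H.len a (hL ha)
    have h2 : a.2 ᵥ* nf C d = m • a.1 := funext fun i => by
      have := h1 (Pi.single i 1)
      rwa [fm_nf, dotProduct_single, dotProduct_single, mul_one, mul_one] at this
    have h3 := h a ha
    simp only [ev, dotProduct] at h3 ⊢
    simp [h2, mul_assoc, ← Finset.mul_sum, h3]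
  | zero => simp [ev]
  | add x z _ _ h1 h2 =>
    simp only [ev, dotProduct] at h1 h2 ⊢
    simp [add_vecMul, add_mul, Finset.sum_add_distrib, h1, h2]
  | smul m x _ h1 =>
    rw [smul_vecMul]
    simp only [ev, dotProduct] at h1 ⊢
    simp only [Pi.smul_apply, smul_eq_mul, Int.cast_mul, mul_assoc, ← Finset.mul_sum, h1, mul_zero]

/-- the roots of `L` separate the points of the span of the coroots -/
theorem sep (hC : Car C d) {L : RS I} (hL : L ⊆ Rc C) {J : Type} [Fintype J] [DecidableEq J] {P : Matrix I J ℤ}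
    (p1 : ∀ u, P *ᵥ u = 0 → u = 0) (p2 : ∀ u, P *ᵥ u ∈ Submodule.span ℤ (Prod.snd '' L)) {y : J → ℂ}
    (h : ∀ a ∈ L, ev a.1 (P.map (Int.cast : ℤ → ℂ) *ᵥ y) = 0) : y = 0 := by
  have h1 : (Pᵀ * nf C d * P).det ≠ 0 := fun k => by
    obtain ⟨u, u1, u2⟩ := Matrix.exists_mulVec_eq_zero_iff.2 k
    refine u1 (p1 u (by_contra fun k' => (hC.pos _ k').ne' ?_))
    refine (fm_nf (P *ᵥ u) (P *ᵥ u)).trans ?_
    rw [← dotProduct_mulVec, ← vecMul_transpose, ← dotProduct_mulVec, vecMul_transpose, mulVec_mulVec, mulVec_mulVec, u2,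
      dotProduct_zero]
  refine Matrix.eq_zero_of_mulVec_eq_zero (M := (Pᵀ * nf C d * P).map (Int.cast : ℤ → ℂ)) ?_ (funext fun j => ?_)
  · rw [show (Pᵀ * nf C d * P).map (Int.cast : ℤ → ℂ) = (Int.castRingHom ℂ).mapMatrix _ from rfl, ← RingHom.map_det]
    exact Int.cast_ne_zero.2 h1
  · have h2 := ev_span (boxRs C d hC) hL h (p2 (Pi.single j 1))
    rw [TrL.ev_rect, ← vecMul_transpose, vecMul_vecMul, vecMul_vecMul, single_one_vecMul, ← Matrix.mul_assoc] at h2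
    exact h2

end AnA

open AnA in
theorem boxAnI : BoxAnI := by
  intro I _ _ C d L X q hC hL hX hN ha hq v hv
  obtain ⟨m, P, p1, p2, p3⟩ := exists_basis (Submodule.span ℤ (Prod.snd '' L))
  have h1 : ∀ u ∈ Submodule.span ℤ (Prod.snd '' L), X *ᵥ u ∈ Submodule.span ℤ (Prod.snd '' L) := fun u hu => by
    induction hu using Submodule.span_induction with
    | mem x hx =>
      obtain ⟨a, ha, rfl⟩ := hx
      obtain ⟨b, hb, e, -⟩ := hN a ha
      exact Submodule.subset_span ⟨b, hb, e.symm⟩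
    | zero => rw [mulVec_zero]; exact zero_mem _
    | add x z _ _ h1 h2 => rw [mulVec_add]; exact add_mem h1 h2
    | smul m x _ h1 => rw [mulVec_smul]; exact Submodule.smul_mem _ _ h1
  choose c hc using fun j : Fin m => p3 _ (h1 _ (p2 (Pi.single j 1)))
  have h2 : X * P = P * (Matrix.of c)ᵀ := Matrix.ext fun i j => by
    have := congrFun (hc j) i
    rw [mulVec_mulVec, mulVec_single_one] at this
    exact this.symm
  generalize (Matrix.of c)ᵀ = Y at h2
  obtain ⟨n, n1, n2⟩ := fin_ord (boxRs C d hC) hX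
  have h3 : ∀ k : ℕ, X ^ k * P = P * Y ^ k := fun k => by
    induction k with
    | zero => rw [pow_zero, pow_zero, Matrix.one_mul, Matrix.mul_one]
    | succ k ih => rw [pow_succ, Matrix.mul_assoc, h2, ← Matrix.mul_assoc, ih, Matrix.mul_assoc, ← pow_succ]
  have h4 : Y ^ n = 1 := Matrix.ext fun i j => by
    have := p1 ((Y ^ n - 1) *ᵥ Pi.single j 1) (by
      rw [mulVec_mulVec, Matrix.mul_sub, ← h3, n2, Matrix.one_mul, Matrix.mul_one, sub_self, zero_mulVec])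
    rw [mulVec_single_one] at this
    exact sub_eq_zero.1 (congrFun this i)
  have h5 : (q : ZMod 3) = 1 := by
    have := (ZMod.intCast_zmod_eq_zero_iff_dvd (q - 1) 3).2 hq
    rwa [Int.cast_sub, Int.cast_one, sub_eq_zero] at this
  have h6 : ¬ ((3 : ℕ) : ℤ) ∣ (q • Y - 1).det := fun k => by
    obtain ⟨μ, y, y1, y2, y3⟩ := eig_two Y q 3 _ 1 n ⟨Nat.prime_three, fun k => by omega, rfl, by rw [h5, orderOf_one]⟩ n1 h4 k
    refine ha μ y1 ⟨P.map (Int.cast : ℤ → ℂ) *ᵥ y, ?_, by_contra fun k' => y2 (sep hC hL p1 p2 fun a h => by_contra fun k'' => k' ⟨a, h, k''⟩)⟩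
    rw [IsE, mulVec_mulVec, ← TrL.map_mul', h2, TrL.map_mul', ← mulVec_mulVec, show _ *ᵥ y = _ from y3, mulVec_smul]
  obtain ⟨u, rfl⟩ := p3 v hv
  refine ⟨_, P *ᵥ (adjugate (q • Y - 1) *ᵥ u), h6, p2 _, ?_⟩
  rw [mulVec_mulVec, Matrix.sub_mul, Matrix.smul_mul, h2, Matrix.one_mul, ← Matrix.mul_smul,
    show P * (q • Y) - P = P * (q • Y - 1) by rw [Matrix.mul_sub, Matrix.mul_one], ← mulVec_mulVec, mulVec_mulVec u, mul_adjugate,
    smul_mulVec, one_mulVec, mulVec_smul]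

end Cfsg.Agent.BZ.RT.Cx
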