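import Cfsg.Agent.BZ.RT.Cx.Defs
import Cfsg.Agent.BZ.RT.Z2E
import Cfsg.Agent.BZ.RT.Z2Lam
import Cfsg.Agent.OM.Cu.EngC

/-!
# BZ / RT : `boxAnJ`, elliptic elements of `W(D₄)`, `W(D₄ A₁)`, `W(D₅)` have no eigenvalue of order a power of three (helper22)
-/

set_option autoImplicit false
set_option linter.unusedSectionVars false

namespace Cfsg.Agent.BZ.RT.Cx

open Cfsg Matrix Cfsg.Agent.DL Cfsg.Agent.HZ.L Cfsg.Agent.BZ.TA Cfsg.Agent.BZ.TA.Cl Cfsg.Agent.OM.Cu Cfsg.Agent.BZ.RT.Z2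

namespace AnJ

section Gen

variable {I : Type} [Fintype I] [DecidableEq I] {C X w : Mat I} {μ u : Vec I} {η : ℂ} {y : I → ℂ}

/-- the vectors which vanish outside of the Levi subsystem -/
def Sp (C : Mat I) (μ v : Vec I) : Prop := ∀ i, ¬ Jz C μ i → v i = 0

/-- short vectors with even roots -/
structure Ev (C : Mat I) (μ u : Vec I) : Prop where
  sp : Sp C μ u
  ev : ∀ j, Jz C μ j → (2 : ℤ) ∣ (u ᵥ* C) j
  nr : u ⬝ᵥ (u ᵥ* C) = 2 ∨ u ⬝ᵥ (u ᵥ* C) = 4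

theorem sym (h : Car C fun _ => 1) (u v : Vec I) : u ⬝ᵥ (v ᵥ* C) = v ⬝ᵥ (u ᵥ* C) := by rw [← E8q.fm1, RsP.fm_comm h, E8q.fm1]

theorem Ev.dvd (e : Ev C μ u) {z : Vec I} (hz : Sp C μ z) : (2 : ℤ) ∣ z ⬝ᵥ (u ᵥ* C) :=
  Finset.dvd_sum fun i _ => by
    by_cases k : Jz C μ i
    · exact (e.ev i k).mul_left _
    · rw [hz i k, zero_mul]
      exact dvd_zero _

theorem Ev.ww (h : Car C fun _ => 1) (hd : Dom C μ) (e : Ev C μ u) (hw : w ∈ WW (lev (Rc C) μ)) :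
    ∀ z, Sp C μ z → ∃ z', Sp C μ z' ∧ w *ᵥ (u + (2 : ℤ) • z) = u + (2 : ℤ) • z' := by
  induction hw using Submonoid.closure_induction with
  | mem _ hx =>
    obtain ⟨a, ha, rfl⟩ := hx
    intro z hz
    have h1 : Sp C μ a.2 := (ParT.zero_iff h hd ha.1).1 ha.2
    obtain ⟨m, hm⟩ := e.dvd h1
    refine ⟨z - (m + a.1 ⬝ᵥ z) • a.2, fun i k => by simp [hz i k, h1 i k], ?_⟩
    rw [RsP.rfm_mulVec, dotProduct_add, dotProduct_smul, E8q.dot' h ha.1 u, hm, smul_eq_mul]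
    module
  | one => exact fun z hz => ⟨z, hz, one_mulVec _⟩
  | mul _ _ _ _ h1 h2 =>
    intro z hz
    obtain ⟨z', k1, k2⟩ := h2 z hz
    obtain ⟨z'', k3, k4⟩ := h1 z' k1
    exact ⟨z'', k3, by rw [← mulVec_mulVec, k2, k4]⟩

/-- no fixed vector -/
theorem fix_zero (h : Car C fun _ => 1) (ell : ¬ Eig (lev (Rc C) μ) X 1) {v : Vec I} (hv : Sp C μ v) (e : X *ᵥ v = v) : v = 0 := by
  by_contra h0
  obtain ⟨i, -, hi⟩ := Finset.exists_ne_zero_of_sum_ne_zero (h.pos v h0).ne'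
  refine ell ⟨fun i => (v i : ℂ), (LamA.cast_vec X v).trans (by rw [e, one_smul]), sp C i, ⟨RsP.mem i, by_contra fun k => hi ?_⟩, ?_⟩
  · rw [hv i k, zero_mul, zero_mul]
  · rw [LamA.ev_cast, Int.cast_ne_zero, dotProduct_comm]
    exact right_ne_zero_of_mul hi

/-- the orbit of `u` contains `-u` -/
theorem Ev.neg (h : Car C fun _ => 1) (hd : Dom C μ) (hX : X ∈ Wc C) (fx : X *ᵥ μ = μ) (ell : ¬ Eig (lev (Rc C) μ) X 1)
    (e : Ev C μ u) : ∃ k, X ^ k *ᵥ u = -u := by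
  obtain ⟨n, h1, h2⟩ := fin_ord (boxRs C _ h) ((boxRs C _ h).nm X hX)
  have h3 : ∀ k, ∃ z, Sp C μ z ∧ X ^ k *ᵥ u = u + (2 : ℤ) • z := fun k => by
    simpa only [smul_zero, add_zero] using e.ww h hd (pow_mem (ParT.stab h hd hX fx) k) 0 fun _ _ => rfl
  have h4 : ∑ k ∈ Finset.range n, X ^ k *ᵥ u = 0 := fix_zero h ell (fun i hi => by
      rw [Finset.sum_apply]
      refine Finset.sum_eq_zero fun k _ => ?_
      obtain ⟨z, z1, z2⟩ := h3 k
      rw [z2, Pi.add_apply, Pi.smul_apply, e.sp i hi, z1 i hi, smul_zero, add_zero]) (by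
      have := mul_geom_sum X n
      rw [h2, sub_self, sub_mul, one_mul, sub_eq_zero] at this
      rw [← sum_mulVec, mulVec_mulVec, this])
  by_contra k
  have h5 := congrArg (· ⬝ᵥ (u ᵥ* C)) h4
  simp only [sum_dotProduct, zero_dotProduct] at h5
  refine (Finset.sum_pos' (fun j _ => ?_) ⟨0, Finset.mem_range.2 h1, ?_⟩).ne' h5
  · obtain ⟨z, z1, z2⟩ := h3 j
    obtain ⟨m, hm⟩ := e.dvd z1
    have h6 : 0 < fm C (fun _ => 1) (X ^ j *ᵥ u + u) (X ^ j *ᵥ u + u) := h.pos _ fun k' => k ⟨j, eq_neg_of_add_eq_zero_left k'⟩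
    have h7 := RsP.iso h (pow_mem hX j) u u
    rw [E8q.fm1, E8q.fm1] at h7
    rw [E8q.fm1, add_vecMul, dotProduct_add, add_dotProduct, add_dotProduct, h7, sym h u (X ^ j *ᵥ u)] at h6
    rw [z2, add_dotProduct, smul_dotProduct, hm, smul_eq_mul] at h6 ⊢
    have := e.nr
    omega
  · rw [pow_zero, one_mulVec]
    have := e.nr
    omega

theorem isE_pow (h : IsE X η y) (k : ℕ) : IsE (X ^ k) (η ^ k) y := by
  induction k with
  | zero => simp [IsE]
  | succ j ih => rw [IsE, pow_succ, TrL.map_mul', ← mulVec_mulVec, h, mulVec_smul, ih, smul_smul, pow_succ']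

/-- the functional of a vector at `y` -/
noncomputable def fn (C : Mat I) (y : I → ℂ) : Vec I →+ ℂ where
  toFun v := ev (v ᵥ* C) y
  map_zero' := by simp [ev]
  map_add' a b := by simp [ev, add_vecMul, dotProduct, add_mul, Finset.sum_add_distrib]

theorem kill (h : Car C fun _ => 1) (hX : X ∈ Wc C) {k : ℕ} (e : X ^ k *ᵥ u = -u) (hη : Lv 3 1 η) (hy : IsE X η y) : fn C y u = 0 := by
  obtain ⟨j, hj⟩ := hη
  rw [IsPrimitiveRoot.one_right_iff] at hj
  have h1 : (u ᵥ* C) ᵥ* X ^ k = (-u) ᵥ* C := dotProduct_eq _ _ fun v => by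
    have := RsP.iso h (pow_mem hX k) v u
    rw [E8q.fm1, E8q.fm1, e, neg_vecMul, dotProduct_neg] at this
    rw [← dotProduct_mulVec, dotProduct_comm, neg_vecMul, neg_dotProduct, dotProduct_comm _ v, ← this, neg_neg]
  have h2 := TrL.ev_rect (u ᵥ* C) (X ^ k) y
  rw [h1, show (X ^ k).map (Int.cast : ℤ → ℂ) *ᵥ y = _ from isE_pow hy k, TrL.ev_smul] at h2
  have h3 : (η ^ k + 1) * fn C y u = 0 := by
    have : fn C y (-u) = - fn C y u := map_neg _ _
    rw [add_mul, one_mul, add_eq_zero_iff_eq_neg, ← this]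
    exact h2
  refine (mul_eq_zero.1 h3).resolve_left fun k' => ?_
  have h4 := congrArg (· ^ 3 ^ j) (eq_neg_of_add_eq_zero_left k')
  beta_reduce at h4
  rw [← pow_mul, mul_comm k, pow_mul, hj, one_pow, Odd.neg_one_pow (Odd.pow (by decide))] at h4
  norm_num at h4

theorem an_of (h : Car C fun _ => 1) (hd : Dom C μ) (hX : X ∈ Wc C) (fx : X *ᵥ μ = μ) (ell : ¬ Eig (lev (Rc C) μ) X 1)
    (hU : ∀ j, Jz C μ j → ∃ u u', Ev C μ u ∧ Ev C μ u' ∧ (2 : ℤ) • Pi.single j 1 = u + u') : An (lev (Rc C) μ) 3 1 X := by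
  rintro η hη ⟨y, hy, a, ha, h0⟩
  have h1 : ∀ u, Ev C μ u → fn C y u = 0 := fun u e =>
    let ⟨_, hk⟩ := e.neg h hd hX fx ell
    kill h hX hk hη hy
  have h2 : a.1 = a.2 ᵥ* C := dotProduct_eq _ _ fun v => by rw [E8q.dot h ha.1, dotProduct_comm]
  refine h0 (h2 ▸ show fn C y a.2 = 0 from ?_)
  rw [← Finset.univ_sum_single a.2, map_sum]
  refine Finset.sum_eq_zero fun j _ => ?_
  by_cases k : Jz C μ j
  · obtain ⟨u, u', e, e', h3⟩ := hU j k
    have h4 := congrArg (fn C y) h3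
    rw [map_zsmul, map_add, h1 u e, h1 u' e', add_zero, smul_eq_zero] at h4
    rw [← mul_one (a.2 j), ← smul_eq_mul, Pi.single_smul, map_zsmul, h4.resolve_left two_ne_zero, smul_zero]
  · rw [(ParT.zero_iff h hd ha.1).1 ha.2 j k, Pi.single_zero, map_zero]

end Gen

/-- the nodes -/
abbrev Kn (n j i : ℕ) : Prop := (i = 1 ∨ i = 2 ∨ i = 3 ∨ i + 1 = n) ∨ i = j

/-- the vectors `± 2 eᵢ` and the isolated root -/
def uu (n j : ℕ) (k : Fin 6) (i : Fin n) : ℤ :=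
  let q := if j = 4 then 1 else 3
  let p := if j = 4 then 3 else 1
  let b : ℕ → ℤ := fun x => if (i : ℕ) = x then 1 else 0
  let s := b q + b (n - 1)
  if k = 0 then b q - b (n - 1) else if k = 1 then s else if k = 2 then 2 * b 2 + s else if k = 3 then 2 * b p + 2 * b 2 + s else
    if j = 0 ∨ j = 4 then 2 * b j + 2 * b p + 2 * b 2 + s else if (j = 5 ∨ j = 6) ∧ j + 1 < n then b j else s

/-- the check -/
abbrev Ok (n : ℕ) : Prop := ∀ j : Fin n, (∀ k, (∀ i : Fin n, ¬ Kn n j i → uu n j k i = 0) ∧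
  (∀ i : Fin n, Kn n j i → (uu n j k ᵥ* En n) i % 2 = 0) ∧ (uu n j k ⬝ᵥ (uu n j k ᵥ* En n) = 2 ∨ uu n j k ⬝ᵥ (uu n j k ᵥ* En n) = 4)) ∧
  ∀ i : Fin n, Kn n j i → ∃ k k', (∀ x, (if x = i then 2 else 0) = uu n j k x + uu n j k' x) ∨
    ∀ x, (if x = i then 2 else 0) = uu n j k x - uu n j k' x

theorem ok6 : Ok 6 := by decide +kernel
theorem ok7 : Ok 7 := by decide +kernel
theorem ok8 : Ok 8 := by decide +kernel

theorem car {n : ℕ} (h : R3 n) : Car (En n) fun _ => 1 := by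
  rcases h with rfl | rfl | rfl
  · exact (show ![1, 1, 1, 1, 1, 1] = fun _ => (1 : ℤ) by decide) ▸ Eng.carE6
  · exact (show ![1, 1, 1, 1, 1, 1, 1] = fun _ => (1 : ℤ) by decide) ▸ Eng.carE7
  · exact (show ![1, 1, 1, 1, 1, 1, 1, 1] = fun _ => (1 : ℤ) by decide) ▸ Eng.carE8

/-- at most one more node -/
theorem node {n : ℕ} (h : R3 n) {μ : Vec (Fin n)} (hJ : JD n μ) (hc : n ≤ co (En n) μ + 5) :
    ∃ j : Fin n, ∀ i, Jz (En n) μ i ↔ Kn n j i := by
  classical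
  have h6 : 6 ≤ n := by rcases h with rfl | rfl | rfl <;> omega
  by_cases k : ∃ j, Jz (En n) μ j ∧ ¬ Dn n j
  · obtain ⟨j, j1, j2⟩ := k
    refine ⟨j, fun i => ⟨fun hi => by_contra fun k => ?_, fun hi => hi.elim (hJ i) fun e => (Fin.ext e : i = j) ▸ j1⟩⟩
    have h1 := Set.ncard_add_ncard_compl {i | Jz (En n) μ i}
    have h2 : (insert i (insert j {x : Fin n | Dn n x})).ncard ≤ {i | Jz (En n) μ i}.ncard := Set.ncard_le_ncard (by
      rintro x (rfl | rfl | hx)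
      exacts [hi, j1, hJ x hx])
    have h3 : {x : Fin n | Dn n x}.ncard = 4 := by
      rw [show {x : Fin n | Dn n x} = (Finset.univ.filter fun x : Fin n => Kn n 1 x : Finset (Fin n)) from
        Set.ext fun x => by simp only [Set.mem_ofPred_eq, Finset.coe_filter, Finset.mem_univ, true_and, Dn, Kn]; omega,
        Set.ncard_coe_finset]
      rcases h with rfl | rfl | rfl <;> decide
    rw [Set.ncard_insert_of_notMem (fun e => k (e.elim (fun e => .inr (congrArg Fin.val e)) .inl)),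
      Set.ncard_insert_of_notMem (show j ∉ {x : Fin n | Dn n x} from j2), h3] at h2
    rw [Nat.card_fin] at h1
    have h4 : co (En n) μ = {i | Jz (En n) μ i}ᶜ.ncard := rfl
    omega
  · exact ⟨⟨1, by omega⟩, fun i => ⟨fun hi => .inl (by_contra fun e => k ⟨i, hi, e⟩), fun hi => hJ i (hi.elim id .inl)⟩⟩

end AnJ

open AnJ in
/-- **[AnJ]** -/
theorem boxAnJ : BoxAnJ := fun n hn μ X G H hX hJ hc => by
  obtain ⟨j, hj⟩ := node hn hJ hc
  obtain ⟨h1, h2⟩ := (show Ok n by rcases hn with rfl | rfl | rfl; exacts [ok6, ok7, ok8]) j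
  have h3 : ∀ k, Ev (En n) μ (uu n j k) := fun k =>
    ⟨fun i hi => (h1 k).1 i fun e => hi ((hj i).2 e), fun i hi => Int.dvd_of_emod_eq_zero ((h1 k).2.1 i ((hj i).1 hi)), (h1 k).2.2⟩
  refine an_of (car hn) H.dom hX H.fx H.ell fun i hi => ?_
  have h4 : ∀ x, ((2 : ℤ) • Pi.single i 1 : Vec (Fin n)) x = if x = i then 2 else 0 := fun x => by
    rw [Pi.smul_apply, Pi.single_apply, smul_ite, smul_zero, smul_eq_mul, mul_one]
  obtain ⟨k, k', e | e⟩ := h2 i ((hj i).1 hi)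
  · exact ⟨_, _, h3 k, h3 k', funext fun x => (h4 x).trans (e x)⟩
  · refine ⟨_, -uu n j k', h3 k, ⟨fun x hx => neg_eq_zero.2 ((h3 k').sp x hx), fun x hx => ?_, ?_⟩,
      funext fun x => (h4 x).trans ((e x).trans (sub_eq_add_neg _ _))⟩
    · rw [neg_vecMul, Pi.neg_apply, dvd_neg]
      exact (h3 k').ev x hx
    · rw [neg_vecMul, neg_dotProduct_neg]
      exact (h3 k').nr

end Cfsg.Agent.BZ.RT.Cx
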