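import Cfsg.Agent.BZ.RT.Cx.AnI
import Cfsg.Agent.BZ.RT.Cx.Rk3
import Cfsg.Agent.BZ.RT.Z2E7
import Cfsg.Agent.OM.Cu.EngC

/-!
# BZ / RT / Cx : the shapes over `E₆` in `E₈`, `boxS6` (helper53)
-/

set_option autoImplicit false
set_option linter.unusedSectionVars false

namespace Cfsg.Agent.BZ.RT.Cx

open Cfsg Matrix Cfsg.Agent.DL Cfsg.Agent.HZ.L Cfsg.Agent.BZ.TA Cfsg.Agent.BZ.TA.Cl Cfsg.Agent.OM.Cu Cfsg.Agent.OM Cfsg.Agent.BZ.RT.Z2

namespace S53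

theorem car8 : Car (En 8) fun _ => 1 := by
  have e : (![1, 1, 1, 1, 1, 1, 1, 1] : Fin 8 → ℤ) = fun _ => 1 := by decide
  exact e ▸ Eng.carE8

/-- the form -/
def bf (u v : Vec (Fin 8)) : ℤ := fm (En 8) (fun _ => 1) u v

theorem bf_comm (u v : Vec (Fin 8)) : bf u v = bf v u := RsP.fm_comm car8 u v
theorem bf_add (u v w : Vec (Fin 8)) : bf u (v + w) = bf u v + bf u w := Rk88.fm_add u v w
theorem bf_add' (u v w : Vec (Fin 8)) : bf (v + w) u = bf v u + bf w u := by rw [bf_comm, bf_add, bf_comm u, bf_comm u]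
theorem bf_sub (u v w : Vec (Fin 8)) : bf u (v - w) = bf u v - bf u w := RsP.fm_sub' u v w
theorem bf_sub' (u v w : Vec (Fin 8)) : bf (v - w) u = bf v u - bf w u := RsP.fm_sub v w u
theorem bf_smul (m : ℤ) (u v : Vec (Fin 8)) : bf u (m • v) = m * bf u v := RsP.fm_smul' m u v
theorem bf_smul' (m : ℤ) (u v : Vec (Fin 8)) : bf (m • u) v = m * bf u v := RsP.fm_smul m u v
theorem bf_nonneg (u : Vec (Fin 8)) : 0 ≤ bf u u := E7P.fm_nonneg car8 u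
theorem bf_zero {u : Vec (Fin 8)} (h : bf u u ≤ 0) : u = 0 := RsP.fm_zero car8 h
theorem bf_two {a : Vec (Fin 8) × Vec (Fin 8)} (ha : a ∈ Rc (En 8)) : bf a.2 a.2 = 2 := E7P.fm_two car8 ha

theorem bf_root {a : Vec (Fin 8) × Vec (Fin 8)} (ha : a ∈ Rc (En 8)) (v : Vec (Fin 8)) : bf a.2 v = a.1 ⬝ᵥ v := by
  obtain ⟨m, -, h⟩ := (boxRs _ _ car8).len a ha
  have h1 : bf a.2 a.2 = _ := h a.2
  rw [bf_two ha, (boxRs _ _ car8).two a ha] at h1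
  have h2 : bf a.2 v = _ := h v
  rw [h2, show m = 1 by omega, one_mul]

/-- three times the projection -/
def yv (s t : ℤ) : Vec (Fin 8) := (2 * s - 3 * t) • ![4, 8, 12, 10, 8, 6, 3, 6] + (6 * t - 3 * s) • ![2, 4, 6, 5, 4, 3, 2, 3]

theorem bf_one {w : Vec (Fin 8)} {i : Fin 8} (h : w ᵥ* En 8 = Pi.single i 1) (v : Vec (Fin 8)) : bf v w = v i := by
  show ∑ j, v j * 1 * (w ᵥ* En 8) j = _
  rw [h, Finset.sum_eq_single i]
  · rw [Pi.single_eq_same]; ring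
  · intro j _ hj
    rw [Pi.single_eq_of_ne hj, mul_zero]
  · exact fun hi => (hi (Finset.mem_univ _)).elim

theorem bf_y (s t : ℤ) (v : Vec (Fin 8)) : bf v (yv s t) = (2 * s - 3 * t) * v 5 + (6 * t - 3 * s) * v 6 := by
  rw [yv, bf_add, bf_smul, bf_smul, bf_one (i := 5) (by decide +kernel), bf_one (i := 6) (by decide +kernel)]

theorem bf_yy (s t : ℤ) : bf (yv s t) (yv s t) = 6 * (s ^ 2 - 3 * s * t + 3 * t ^ 2) := by
  rw [bf_y]
  show (2 * s - 3 * t) * ((2 * s - 3 * t) * 6 + (6 * t - 3 * s) * 3) + (6 * t - 3 * s) * ((2 * s - 3 * t) * 3 + (6 * t - 3 * s) * 2) = _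
  ring

/-- the roots over a fixed vector -/
def Ov (s t : ℤ) (v : Vec (Fin 8)) : Prop := bf v v = 2 ∧ v 5 = s ∧ v 6 = t

variable {s t : ℤ} {u v w : Vec (Fin 8)}

theorem Ov.y (h : Ov s t v) : bf v (yv s t) = 2 * (s ^ 2 - 3 * s * t + 3 * t ^ 2) := by
  rw [bf_y, h.2.1, h.2.2]; ring

theorem q_one (h : Ov s t v) (h0 : ¬ (s = 0 ∧ t = 0)) (h5 : u 5 = 0) (h6 : u 6 = 0) (hu : bf u v ≠ 0) :
    s ^ 2 - 3 * s * t + 3 * t ^ 2 = 1 := by
  have e : bf ((3 : ℤ) • v - yv s t) ((3 : ℤ) • v - yv s t) = 18 - 6 * (s ^ 2 - 3 * s * t + 3 * t ^ 2) := by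
    simp only [bf_sub, bf_sub', bf_smul, bf_smul', bf_comm (yv s t) v, h.1, h.y, bf_yy]
    ring
  have h1 : 0 < 18 - 6 * (s ^ 2 - 3 * s * t + 3 * t ^ 2) := by
    rw [← e]
    by_contra k
    have k1 := congrArg (bf u) (sub_eq_zero.1 (bf_zero (not_lt.1 k)))
    rw [bf_smul, bf_y, h5, h6] at k1
    omega
  have h2 : 0 < s ^ 2 - 3 * s * t + 3 * t ^ 2 := by
    by_contra k
    have k1 : t = 0 := by nlinarith [sq_nonneg (2 * s - 3 * t), sq_nonneg t]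
    have k2 : s = 0 := by rw [k1] at k; nlinarith [sq_nonneg s]
    exact h0 ⟨k2, k1⟩
  have h3 : s ^ 2 % 3 ≠ 2 := by
    rw [sq, Int.mul_emod]
    have : s % 3 = 0 ∨ s % 3 = 1 ∨ s % 3 = 2 := by omega
    rcases this with k | k | k <;> rw [k] <;> decide
  rw [mul_assoc] at h1 h2 ⊢
  omega

theorem pair (hq : s ^ 2 - 3 * s * t + 3 * t ^ 2 = 1) (hu : Ov s t u) (hv : Ov s t v) : 0 ≤ bf u v := by
  have e := bf_nonneg ((3 : ℤ) • (u + v) - (2 : ℤ) • yv s t)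
  simp only [bf_sub, bf_sub', bf_add, bf_add', bf_smul, bf_smul', bf_comm (yv s t) u, bf_comm (yv s t) v, bf_comm v u, hu.1, hv.1,
    hu.y, hv.y, bf_yy, hq] at e
  omega

theorem triple (hq : s ^ 2 - 3 * s * t + 3 * t ^ 2 = 1) (hu : Ov s t u) (hv : Ov s t v) (hw : Ov s t w) (h1 : bf u v = 0)
    (h2 : bf u w = 0) (h3 : bf v w = 0) : u + v + w = yv s t := by
  refine sub_eq_zero.1 (bf_zero ?_)
  simp only [bf_sub, bf_sub', bf_add, bf_add', bf_comm (yv s t) u, bf_comm (yv s t) v, bf_comm (yv s t) w, bf_comm v u, bf_comm w u,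
    bf_comm w v, hu.1, hv.1, hw.1, hu.y, hv.y, hw.y, bf_yy, hq, h1, h2, h3]
  omega

theorem three (h : ∀ i : Fin 8, i ≠ 5 → i ≠ 6 → (sp (En 8) i).1 ⬝ᵥ v = 0) : 3 ∣ v 5 := by
  have e : ∀ (i : Fin 8) (r : Vec (Fin 8)), (sp (En 8) i).1 = r → i ≠ 5 → i ≠ 6 → r ⬝ᵥ v = 0 := fun i r e a b => e ▸ h i a b
  have h0 := e 0 ![2, -1, 0, 0, 0, 0, 0, 0] (by decide +kernel) (by decide) (by decide)
  have h1 := e 1 ![-1, 2, -1, 0, 0, 0, 0, 0] (by decide +kernel) (by decide) (by decide)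
  have h2 := e 2 ![0, -1, 2, -1, 0, 0, 0, -1] (by decide +kernel) (by decide) (by decide)
  have h3 := e 3 ![0, 0, -1, 2, -1, 0, 0, 0] (by decide +kernel) (by decide) (by decide)
  have h4 := e 4 ![0, 0, 0, -1, 2, -1, 0, 0] (by decide +kernel) (by decide) (by decide)
  have h7 := e 7 ![0, 0, -1, 0, 0, 0, 0, 2] (by decide +kernel) (by decide) (by decide)
  simp only [dotProduct, Fin.sum_univ_eight] at h0 h1 h2 h3 h4 h7
  change 2 * v 0 + -1 * v 1 + 0 * v 2 + 0 * v 3 + 0 * v 4 + 0 * v 5 + 0 * v 6 + 0 * v 7 = 0 at h0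
  change -1 * v 0 + 2 * v 1 + -1 * v 2 + 0 * v 3 + 0 * v 4 + 0 * v 5 + 0 * v 6 + 0 * v 7 = 0 at h1
  change 0 * v 0 + -1 * v 1 + 2 * v 2 + -1 * v 3 + 0 * v 4 + 0 * v 5 + 0 * v 6 + -1 * v 7 = 0 at h2
  change 0 * v 0 + 0 * v 1 + -1 * v 2 + 2 * v 3 + -1 * v 4 + 0 * v 5 + 0 * v 6 + 0 * v 7 = 0 at h3
  change 0 * v 0 + 0 * v 1 + 0 * v 2 + -1 * v 3 + 2 * v 4 + -1 * v 5 + 0 * v 6 + 0 * v 7 = 0 at h4
  change 0 * v 0 + 0 * v 1 + -1 * v 2 + 0 * v 3 + 0 * v 4 + 0 * v 5 + 0 * v 6 + 2 * v 7 = 0 at h7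
  omega

end S53

open S53 in
theorem boxS6 : BoxS6 := by
  intro μ X G Φ H hX hD n5 n6 j0 j4 a ⟨ha, a0, b, hb, ab⟩
  have R := boxRs _ _ car8
  have hJ : ∀ i : Fin 8, i ≠ 5 → i ≠ 6 → Jz (En 8) μ i := fun i h5 h6 => by
    fin_cases i
    exacts [j0, hD _ (Or.inl rfl), hD _ (Or.inr (Or.inl rfl)), hD _ (Or.inr (Or.inr (Or.inl rfl))), j4, (h5 rfl).elim, (h6 rfl).elim,
      hD _ (Or.inr (Or.inr (Or.inr rfl)))]
  have hz : ∀ c ∈ Rc (En 8), c.1 ⬝ᵥ μ = 0 ↔ c.2 5 = 0 ∧ c.2 6 = 0 := fun c hc => (ParT.zero_iff car8 H.dom hc).trans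
    ⟨fun h => ⟨h 5 n5, h 6 n6⟩, fun h i hi => by
      by_cases h5 : i = 5
      · exact h5 ▸ h.1
      · by_cases h6 : i = 6
        · exact h6 ▸ h.2
        · exact (hi (hJ i h5 h6)).elim⟩
  have hw : ∀ w ∈ WW (lev (Rc (En 8)) μ), ∀ v : Vec (Fin 8), (w *ᵥ v) 5 = v 5 ∧ (w *ᵥ v) 6 = v 6 := fun w hw => by
    induction hw using Submonoid.closure_induction with
    | mem x hx =>
      obtain ⟨c, hc, rfl⟩ := hx
      intro v
      have := (hz c hc.1).1 hc.2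
      simp only [RsP.rfm_mulVec, Pi.sub_apply, Pi.smul_apply, this.1, this.2, smul_zero, sub_zero, and_self]
    | one => intro v; simp only [one_mulVec, and_self]
    | mul x y _ _ h1 h2 => intro v; rw [← mulVec_mulVec, (h1 _).1, (h1 _).2]; exact h2 v
  have hx := hw X (ParT.stab car8 H.dom hX H.fx)
  generalize hM : Submodule.span ℤ (Prod.snd '' lev Φ μ) = M
  have m1 : ∀ c ∈ Φ, c.2 5 = 0 → c.2 6 = 0 → c.2 ∈ M := fun c hc h5 h6 =>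
    hM ▸ Submodule.subset_span ⟨c, ⟨hc, (hz c (H.sub hc)).2 ⟨h5, h6⟩⟩, rfl⟩
  have m5 : ∀ u ∈ M, u 5 = 0 := fun u hu => by
    rw [← hM] at hu
    induction hu using Submodule.span_induction with
    | mem x hx =>
      obtain ⟨c, hc, rfl⟩ := hx
      exact ((hz c (H.sub hc.1)).1 hc.2).1
    | zero => rfl
    | add x z _ _ h1 h2 => rw [Pi.add_apply, h1, h2, add_zero]
    | smul m x _ h1 => rw [Pi.smul_apply, h1, smul_zero]
  have kill : ∀ v : Vec (Fin 8), X *ᵥ v - v ∈ M → 3 ∣ v 5 := fun v hv => by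
    obtain ⟨k, u, k3, hu, e⟩ := boxAnI (En 8) _ (lev Φ μ) X 1 car8 (fun c hc => H.sub hc.1) H.nm (ParT.nm_lev H.nx H.fx) H.an
      (by decide) _ (hM ▸ hv)
    rw [one_smul, sub_mulVec, one_mulVec, smul_sub] at e
    have e1 : X *ᵥ (k • v - u) = k • v - u := by
      rw [mulVec_sub, mulVec_smul, sub_eq_iff_eq_add.1 e]
      abel
    have e2 : Perp (lev (Rc (En 8)) μ) (k • v - u) := fun c hc => by
      by_contra k0
      refine H.ell ⟨fun i => ((k • v - u) i : ℂ), ?_, c, hc, by rw [ev_int]; exact Int.cast_ne_zero.2 k0⟩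
      rw [IsE, one_smul]
      funext i
      exact ((RingHom.map_mulVec (Int.castRingHom ℂ) X (k • v - u) i).symm.trans (by rw [e1]; rfl))
    have e3 := three fun i h5 h6 => (Rk88.perp_iff car8 H.dom).1 e2 i (hJ i h5 h6)
    rw [Pi.sub_apply, m5 u (hM ▸ hu), sub_zero, Pi.smul_apply, smul_eq_mul] at e3
    exact (Int.prime_three.dvd_or_dvd e3).resolve_left k3
  have b0 := (hz b (H.sub hb.1)).1 hb.2
  have o0 : Ov (a.2 5) (a.2 6) a.2 := ⟨bf_two (H.sub ha), rfl, rfl⟩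
  have hq := q_one o0 (fun h => a0 ((hz a (H.sub ha)).2 h)) b0.1 b0.2 (by rw [bf_root (H.sub hb.1)]; exact ab)
  generalize hs : a.2 5 = s at o0 hq
  generalize a.2 6 = t at o0 hq
  have s3 : ¬ 3 ∣ s := fun ⟨m, hm⟩ => by
    rw [hm, show (3 * m) ^ 2 - 3 * (3 * m) * t + 3 * t ^ 2 = 3 * (3 * m ^ 2 - 3 * m * t + t ^ 2) by ring] at hq
    omega
  have orth : ∀ c ∈ Φ, ∀ c' ∈ Φ, Ov s t c.2 → Ov s t c'.2 → c'.2 - c.2 ∉ M → bf c.2 c'.2 = 0 := fun c hc c' hc' o o' hn => by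
    have p0 := pair hq o o'
    have p1 : 0 < bf (c'.2 - c.2) (c'.2 - c.2) := not_le.1 fun k => hn (by rw [bf_zero k]; exact zero_mem _)
    simp only [bf_sub, bf_sub', bf_comm c'.2 c.2, o.1, o'.1] at p1
    by_contra k
    obtain ⟨e, he, e1, -⟩ := H.cl c hc c' hc'
    rw [RsP.rfm_mulVec, ← bf_root (H.sub hc), show bf c.2 c'.2 = 1 by omega, one_smul] at e1
    refine hn (e1 ▸ m1 e he ?_ ?_)
    · rw [← e1, Pi.sub_apply, o.2.1, o'.2.1, sub_self]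
    · rw [← e1, Pi.sub_apply, o.2.2, o'.2.2, sub_self]
  obtain ⟨a1, h1, e1, -⟩ := H.nx a ha
  obtain ⟨a2, h2, e2, -⟩ := H.nx a1 h1
  obtain ⟨a', h', e', -⟩ := H.cl b hb.1 a ha
  rw [RsP.rfm_mulVec] at e'
  have o1 : Ov s t a1.2 := ⟨bf_two (H.sub h1), by rw [← e1, (hx _).1, o0.2.1], by rw [← e1, (hx _).2, o0.2.2]⟩
  have o2 : Ov s t a2.2 := ⟨bf_two (H.sub h2), by rw [← e2, (hx _).1, o1.2.1], by rw [← e2, (hx _).2, o1.2.2]⟩
  have o' : Ov s t a'.2 := ⟨bf_two (H.sub h'), by rw [← e', Pi.sub_apply, Pi.smul_apply, b0.1, smul_zero, sub_zero, o0.2.1],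
    by rw [← e', Pi.sub_apply, Pi.smul_apply, b0.2, smul_zero, sub_zero, o0.2.2]⟩
  have n01 : a1.2 - a.2 ∉ M := fun k => s3 (o0.2.1 ▸ kill a.2 (e1 ▸ k))
  have n12 : a2.2 - a1.2 ∉ M := fun k => s3 (o1.2.1 ▸ kill a1.2 (e2 ▸ k))
  have n02 : a2.2 - a.2 ∉ M := fun k => by
    have := kill (a.2 + a1.2) (by rw [mulVec_add, e1, e2, show a1.2 + a2.2 - (a.2 + a1.2) = a2.2 - a.2 by abel]; exact k)
    rw [Pi.add_apply, o0.2.1, o1.2.1] at this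
    omega
  have mb : (b.1 ⬝ᵥ a.2) • b.2 ∈ M := M.smul_mem _ (m1 b hb.1 b0.1 b0.2)
  have n' : ∀ v, v - a.2 ∉ M → v - a'.2 ∉ M := fun v hv k => hv (by
    have := M.sub_mem k mb
    rwa [← e', show v - (a.2 - (b.1 ⬝ᵥ a.2) • b.2) - (b.1 ⬝ᵥ a.2) • b.2 = v - a.2 by abel] at this)
  have t1 := triple hq o0 o1 o2 (orth a ha a1 h1 o0 o1 n01) (orth a ha a2 h2 o0 o2 n02) (orth a1 h1 a2 h2 o1 o2 n12)
  have t2 := triple hq o' o1 o2 (orth a' h' a1 h1 o' o1 (n' _ n01)) (orth a' h' a2 h2 o' o2 (n' _ n02)) (orth a1 h1 a2 h2 o1 o2 n12)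
  have t3 : a'.2 = a.2 := add_right_cancel (add_right_cancel (t2.trans t1.symm))
  rw [← e', sub_eq_self, smul_eq_zero] at t3
  have t4 := R.two b (H.sub hb.1)
  rw [t3.resolve_left ab, dotProduct_zero] at t4
  omega

end Cfsg.Agent.BZ.RT.Cx
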