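import Cfsg.Agent.BZ.RT.Cx.Defs
import Cfsg.Agent.OM.Cu.Rs

/-!
# BZ / RT : the twist for an orthogonal system (helper27)

The vectors `± y a` are permuted by `G`; no orbit contains a vector together with its negative, so a union of orbits is a half system
and its sum is fixed by `G`.
-/

set_option autoImplicit false
set_option linter.unusedSectionVars false

namespace Cfsg.Agent.BZ.RT.Cx

open Cfsg Matrix Cfsg.Agent.DL Cfsg.Agent.HZ.L Cfsg.Agent.BZ.TA Cfsg.Agent.BZ.TA.Cl Cfsg.Agent.OM.Cu Cfsg.Agent.OM Cfsg.Agent.BZ.RT.Z2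

namespace TW27

variable {I : Type} [Fintype I] [DecidableEq I] {C X g w : Mat I} {d : I → ℤ} {μ v : Vec I} {G : Submonoid (Mat I)} {Φ Ψ : RS I}

/-- the orbit -/
def Ob (G : Submonoid (Mat I)) (s : Vec I) : Set (Vec I) := {t | ∃ g ∈ G, g *ᵥ s = t}

theorem pw_succ (g : Mat I) (i : ℕ) : g ^ (3 ^ i - 1) * g = g ^ 3 ^ i := by
  rw [← pow_succ, Nat.sub_add_cancel (Nat.one_le_pow _ _ (by norm_num))]

theorem pw_succ' (g : Mat I) (i : ℕ) : g * g ^ (3 ^ i - 1) = g ^ 3 ^ i := by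
  rw [← pow_succ', Nat.sub_add_cancel (Nat.one_le_pow _ _ (by norm_num))]

theorem ob_eq (hg : g ∈ G) {i : ℕ} (h : g ^ 3 ^ i *ᵥ v = v) : Ob G (g *ᵥ v) = Ob G v := by
  ext t
  constructor
  · rintro ⟨k, hk, rfl⟩
    exact ⟨k * g, mul_mem hk hg, (mulVec_mulVec _ _ _).symm⟩
  · rintro ⟨k, hk, rfl⟩
    exact ⟨k * g ^ (3 ^ i - 1), mul_mem hk (pow_mem hg _), by rw [mulVec_mulVec, mul_assoc, pw_succ, ← mulVec_mulVec, h]⟩

theorem pow_neg (h : g *ᵥ v = -v) {n : ℕ} (hn : Odd n) : g ^ n *ᵥ v = -v := by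
  obtain ⟨m, rfl⟩ := hn
  induction m with
  | zero => simpa using h
  | succ m ih =>
    rw [show 2 * (m + 1) + 1 = (2 * m + 1) + 1 + 1 by ring, pow_succ, pow_succ, ← mulVec_mulVec, ← mulVec_mulVec, h, mulVec_neg, h,
      neg_neg, ih]

/-- **a stable half system** -/
theorem half {S : Set (Vec I)} (hf : S.Finite) (ng : ∀ s ∈ S, -s ∈ S) (h0 : ∀ s ∈ S, s ≠ 0) (st : ∀ g ∈ G, ∀ s ∈ S, g *ᵥ s ∈ S)
    (pw : ∀ g ∈ G, ∃ i : ℕ, ∀ s ∈ S, g ^ 3 ^ i *ᵥ s = s) : ∃ T : Finset (Vec I), (∀ t ∈ T, t ∈ S) ∧ (∀ s ∈ S, s ∈ T ↔ -s ∉ T) ∧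
      ∀ g ∈ G, g *ᵥ ∑ t ∈ T, t = ∑ t ∈ T, t := by
  classical
  let _ : LinearOrder (Set (Vec I)) := IsWellOrder.linearOrder WellOrderingRel
  let r : Set (Vec I) → Set (Vec I) → Prop := WellOrderingRel
  have ne : ∀ s ∈ S, Ob G s ≠ Ob G (-s) := fun s hs e => by
    obtain ⟨k, hk, e1⟩ : -s ∈ Ob G s := e ▸ ⟨1, one_mem _, one_mulVec _⟩
    obtain ⟨i, hi⟩ := pw k hk
    have h1 := pow_neg e1 (n := 3 ^ i) (Odd.pow (by decide))
    rw [hi s hs] at h1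
    refine h0 s hs (funext fun j => ?_)
    have := congrFun h1 j
    rw [Pi.neg_apply] at this
    rw [Pi.zero_apply]
    omega
  have mem : ∀ t, t ∈ hf.toFinset.filter (fun s => r (Ob G s) (Ob G (-s))) ↔ t ∈ S ∧ r (Ob G t) (Ob G (-t)) := fun t => by
    rw [Finset.mem_filter, Set.Finite.mem_toFinset]
  have mv : ∀ g ∈ G, ∀ t, t ∈ S ∧ r (Ob G t) (Ob G (-t)) → g *ᵥ t ∈ S ∧ r (Ob G (g *ᵥ t)) (Ob G (-(g *ᵥ t))) := fun g hg t ht => by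
    obtain ⟨i, hi⟩ := pw g hg
    rw [← mulVec_neg, ob_eq hg (hi t ht.1), ob_eq hg (hi _ (ng t ht.1))]
    exact ⟨st g hg t ht.1, ht.2⟩
  refine ⟨hf.toFinset.filter fun s => r (Ob G s) (Ob G (-s)), fun t ht => ((mem t).1 ht).1, fun s hs => ?_, fun g hg => ?_⟩
  · rw [mem, mem, neg_neg]
    refine ⟨fun h k => asymm_of r h.2 k.2, fun h => ⟨hs, ?_⟩⟩
    rcases trichotomous_of r (Ob G s) (Ob G (-s)) with k | k | k
    exacts [k, absurd k (ne s hs), absurd ⟨ng s hs, k⟩ h]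
  · obtain ⟨i, hi⟩ := pw g hg
    rw [mulVec_sum]
    refine Finset.sum_nbij' (fun t => g *ᵥ t) (fun t => g ^ (3 ^ i - 1) *ᵥ t) (fun t ht => (mem _).2 (mv g hg t ((mem t).1 ht)))
      (fun t ht => (mem _).2 (mv _ (pow_mem hg _) t ((mem t).1 ht))) (fun t ht => ?_) (fun t ht => ?_) fun _ _ => rfl
    · rw [mulVec_mulVec, pw_succ, hi t ((mem t).1 ht).1]
    · rw [mulVec_mulVec, pw_succ', hi t ((mem t).1 ht).1]

theorem ww_fix (hw : w ∈ WW Ψ) (hv : Perp Ψ v) : w *ᵥ v = v := by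
  induction hw using Submonoid.closure_induction with
  | mem x hx => obtain ⟨a, ha, rfl⟩ := hx; rw [Cu.rfm_mulVec, hv a ha, zero_smul, sub_zero]
  | one => exact one_mulVec _
  | mul x y _ _ hx hy => rw [← mulVec_mulVec, hy, hx]

/-- fixed vectors are central -/
theorem perp (h : ¬ Eig Ψ X 1) (hv : X *ᵥ v = v) : Perp Ψ v := fun a ha => by
  by_contra h0
  refine h ⟨fun i => (v i : ℂ), ?_, a, ha, fun e => h0 ?_⟩
  · unfold IsE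
    rw [one_smul]
    funext i
    have := congrArg (Int.cast : ℤ → ℂ) (congrFun hv i)
    simpa [mulVec, dotProduct] using this
  · have : ((a.1 ⬝ᵥ v : ℤ) : ℂ) = 0 := by simpa [ev, dotProduct] using e
    exact_mod_cast this

theorem surj (hC : Car C d) (H : Mg C μ X G) (hg : g ∈ G) : ∀ b ∈ lev (Rc C) μ, ∃ a ∈ lev (Rc C) μ, b.1 ᵥ* g = a.1 := fun b hb => by
  obtain ⟨i, hi⟩ := H.gl g hg
  obtain ⟨u, hu, u1, -⟩ := WW_inv (fun a ha => RsP.two hC ha.1) hi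
  obtain ⟨a, ha, -, a2⟩ := (H.gn _ (mul_mem (H.wg hu) (pow_mem hg (3 ^ i - 1)))).1 b hb
  exact ⟨a, ha, by rw [← a2, vecMul_vecMul, mul_assoc, pw_succ, u1, vecMul_one]⟩

theorem perp_mv (hC : Car C d) (H : Mg C μ X G) (hg : g ∈ G) (hv : Perp (lev (Rc C) μ) v) : Perp (lev (Rc C) μ) (g *ᵥ v) :=
  fun b hb => by
    obtain ⟨a, ha, e⟩ := surj hC H hg b hb
    rw [dotProduct_mulVec, e, hv a ha]

/-- the group preserves the fixed vectors -/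
theorem fix_mv (hC : Car C d) (H : Mg C μ X G) (hg : g ∈ G) (hv : X *ᵥ v = v) : X *ᵥ (g *ᵥ v) = g *ᵥ v := by
  obtain ⟨h, hh, e⟩ := (H.gn g hg).2
  obtain ⟨u, hu, u1, -⟩ := WW_inv (fun a ha => RsP.two hC ha.1) hh
  have h1 : g *ᵥ v = h *ᵥ (X *ᵥ (g *ᵥ v)) := by rw [mulVec_mulVec, mulVec_mulVec, ← e, ← mulVec_mulVec, hv]
  have h2 := congrArg (u *ᵥ ·) h1
  simp only [mulVec_mulVec, ← mul_assoc, u1, one_mul] at h2
  rw [mulVec_mulVec, ← h2, ← mulVec_mulVec, ww_fix hu (perp_mv hC H hg (perp H.ell hv))]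

/-- the group permutes the mixed roots -/
theorem mx_mv (hC : Car C d) (H : Ms C μ X G Φ) (hg : g ∈ G) (hw : g ∈ WW Φ) {a : Vec I × Vec I} (ha : Mx Φ μ a) :
    ∃ a', Mx Φ μ a' ∧ a'.1 ᵥ* g = a.1 := by
  have hn := Nm.of_WW H.cl hw
  obtain ⟨a', h1, h2, h3⟩ := hn a ha.1
  obtain ⟨b, hb, h4⟩ := ha.2.2
  obtain ⟨b', k1, k2, k3⟩ := hn b hb.1
  obtain ⟨b'', l1, l2, -⟩ := (H.gn g hg).1 b ⟨H.sub hb.1, hb.2⟩
  obtain rfl : b' = b'' := RsP.ext hC (H.sub k1) l1.1 (k2.symm.trans l2)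
  refine ⟨a', ⟨h1, fun e => ha.2.1 ?_, b', ⟨k1, l1.2⟩, by rwa [← h2, dotProduct_mulVec, k3]⟩, h3⟩
  obtain ⟨c, hc, e'⟩ := surj hC H.toMg hg a' ⟨H.sub h1, e⟩
  rw [← h3, e', hc.2]

end TW27

open TW27 in
/-- **the twist** -/
theorem boxTW_of (Rk : BoxRk3) : BoxTW := by
  intro I _ _ C μ X G Φ hC H ⟨y, hy⟩
  classical
  have pw : ∀ g ∈ G, ∃ i : ℕ, ∀ v, X *ᵥ v = v → g ^ 3 ^ i *ᵥ v = v := fun g hg =>
    let ⟨i, hi⟩ := H.gl g hg
    ⟨i, fun v hv => ww_fix hi (perp H.ell hv)⟩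
  have mv : ∀ g ∈ G, ∀ a, Mx Φ μ a → ∃ a', Mx Φ μ a' ∧ y a' = g *ᵥ y a := fun g hg a ha => by
    obtain ⟨h, hh, hw⟩ := H.vc g hg
    obtain ⟨a', ha', e⟩ := mx_mv hC H (mul_mem (H.wg hh) hg) hw ha
    obtain ⟨i, hi⟩ := pw g hg
    have f1 : X *ᵥ (y a' - g *ᵥ y a) = y a' - g *ᵥ y a := by rw [mulVec_sub, (hy a' ha').1, fix_mv hC H.toMg hg (hy a ha).1]
    have f2 := fix_mv hC H.toMg (pow_mem hg (3 ^ i - 1)) f1
    have f3 : g *ᵥ (g ^ (3 ^ i - 1) *ᵥ (y a' - g *ᵥ y a)) = y a' - g *ᵥ y a := by rw [mulVec_mulVec, pw_succ', hi _ f1]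
    refine ⟨a', ha', sub_eq_zero.1 (RsP.fm_zero hC (le_of_eq ?_))⟩
    generalize g ^ (3 ^ i - 1) *ᵥ (y a' - g *ᵥ y a) = v at f2 f3
    have f4 := fix_mv hC H.toMg hg f2
    nth_rewrite 1 [← f3]
    rw [RsP.fm_sub', RsP.iso hC (H.gw hg), (hy a' ha').2.1 _ f4, (hy a ha).2.1 _ f2, ← e, ← dotProduct_mulVec, ← mulVec_mulVec,
      ww_fix hh (perp H.ell f4), sub_self]
  have fx : ∀ s ∈ {s | ∃ a, Mx Φ μ a ∧ (s = y a ∨ s = -y a)}, X *ᵥ s = s := by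
    rintro s ⟨a, ha, rfl | rfl⟩
    · exact (hy a ha).1
    · rw [mulVec_neg, (hy a ha).1]
  obtain ⟨T, t1, t2, t3⟩ := half (G := G) (S := {s | ∃ a, Mx Φ μ a ∧ (s = y a ∨ s = -y a)})
    ((((RsP.fin hC).image y).union ((RsP.fin hC).image fun a => -y a)).subset (by
      rintro s ⟨a, ha, rfl | rfl⟩
      exacts [Or.inl ⟨a, H.sub ha.1, rfl⟩, Or.inr ⟨a, H.sub ha.1, rfl⟩]))
    (by
      rintro s ⟨a, ha, rfl | rfl⟩
      exacts [⟨a, ha, Or.inr rfl⟩, ⟨a, ha, Or.inl (neg_neg _)⟩])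
    (by
      rintro s ⟨a, ha, rfl | rfl⟩ e
      · exact (hy a ha).2.2.1 (by rw [e, dotProduct_zero]; exact dvd_zero _)
      · exact (hy a ha).2.2.1 (by rw [neg_eq_zero.1 e, dotProduct_zero]; exact dvd_zero _))
    (by
      rintro g hg s ⟨a, ha, rfl | rfl⟩ <;> obtain ⟨a', ha', e⟩ := mv g hg a ha
      exacts [⟨a', ha', Or.inl e.symm⟩, ⟨a', ha', Or.inr (by rw [mulVec_neg, e])⟩])
    (fun g hg => let ⟨i, hi⟩ := pw g hg; ⟨i, fun s hs => hi s (fx s hs)⟩)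
  have hx : X *ᵥ ∑ t ∈ T, t = ∑ t ∈ T, t := by
    rw [mulVec_sum]
    exact Finset.sum_congr rfl fun t ht => fx t (t1 t ht)
  have nd : ∀ a, Mx Φ μ a → ¬ (3 : ℤ) ∣ a.1 ⬝ᵥ ∑ t ∈ T, t := fun a ha => by
    have oth : ∀ t ∈ T, t ≠ y a → t ≠ -y a → a.1 ⬝ᵥ t = 0 := fun t ht n1 n2 => by
      obtain ⟨b, hb, rfl | rfl⟩ := t1 t ht <;> rcases (hy b hb).2.2.2 a ha with e | e | e
      · exact absurd e.symm n1
      · exact absurd (by rw [e, neg_neg]) n2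
      · exact e
      · exact absurd (by rw [e]) n2
      · exact absurd e.symm n1
      · rw [dotProduct_neg, e, neg_zero]
    rw [dotProduct_sum]
    by_cases h1 : y a ∈ T
    · rw [Finset.sum_eq_single_of_mem _ h1 fun t ht n1 => oth t ht n1 fun n2 => (t2 _ ⟨a, ha, Or.inl rfl⟩).1 h1 (n2 ▸ ht)]
      exact (hy a ha).2.2.1
    · have h2 : -y a ∈ T := by
        by_contra h2
        exact h1 ((t2 _ ⟨a, ha, Or.inl rfl⟩).2 h2)
      rw [Finset.sum_eq_single_of_mem _ h2 fun t ht n2 => oth t ht (fun n1 => h1 (n1 ▸ ht)) n2, dotProduct_neg, dvd_neg]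
      exact (hy a ha).2.2.1
  refine ⟨⟨∑ t ∈ T, t, ⟨fun i => by rw [hx, sub_self]; exact dvd_zero _, fun g hg i => by rw [t3 g hg, sub_self]; exact dvd_zero _⟩, ?_⟩,
    fun hco a ha => ?_⟩
  · rintro a ⟨a1, a2, b, hb, a3⟩
    exact nd a ⟨a1.1, a2, b, ⟨hb.1.1, hb.2⟩, a3⟩ a1.2
  · have := (Rk C _ μ X G hC H.toMg).2 _ (fun e => nd a ha (by rw [e, dotProduct_zero]; exact dvd_zero _)) (perp H.ell hx) t3
    omega

end Cfsg.Agent.BZ.RT.Cx
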