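import Cfsg.Agent.BZ.RT.Cx.Rk3
import Cfsg.Agent.OM.Cu.EngC

/-!
# BZ / RT / Cx : the Levi subsystems which contain `D₄` (helper88)
-/

set_option autoImplicit false
set_option linter.unusedSectionVars false

namespace Cfsg.Agent.BZ.RT.Cx

open Cfsg Matrix Cfsg.Agent.DL Cfsg.Agent.HZ.L Cfsg.Agent.BZ.TA Cfsg.Agent.BZ.TA.Cl Cfsg.Agent.OM.Cu Cfsg.Agent.OM Cfsg.Agent.BZ.RT.Z2

namespace Rk88

theorem dot7 (z : Vec (Fin 7)) : (sp (En 7) 0).1 ⬝ᵥ z = 2 * z 0 - z 1 ∧ (sp (En 7) 1).1 ⬝ᵥ z = 2 * z 1 - z 0 - z 2 ∧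
    (sp (En 7) 2).1 ⬝ᵥ z = 2 * z 2 - z 1 - z 3 - z 6 ∧ (sp (En 7) 3).1 ⬝ᵥ z = 2 * z 3 - z 2 - z 4 ∧
    (sp (En 7) 4).1 ⬝ᵥ z = 2 * z 4 - z 3 - z 5 ∧ (sp (En 7) 5).1 ⬝ᵥ z = 2 * z 5 - z 4 ∧ (sp (En 7) 6).1 ⬝ᵥ z = 2 * z 6 - z 2 := by
  refine ⟨?_, ?_, ?_, ?_, ?_, ?_, ?_⟩ <;> simp [sp, dotProduct, Fin.sum_univ_succ, cm, cT] <;> ring

theorem dot8 (z : Vec (Fin 8)) : (sp (En 8) 0).1 ⬝ᵥ z = 2 * z 0 - z 1 ∧ (sp (En 8) 1).1 ⬝ᵥ z = 2 * z 1 - z 0 - z 2 ∧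
    (sp (En 8) 2).1 ⬝ᵥ z = 2 * z 2 - z 1 - z 3 - z 7 ∧ (sp (En 8) 3).1 ⬝ᵥ z = 2 * z 3 - z 2 - z 4 ∧
    (sp (En 8) 4).1 ⬝ᵥ z = 2 * z 4 - z 3 - z 5 ∧ (sp (En 8) 5).1 ⬝ᵥ z = 2 * z 5 - z 4 - z 6 ∧
    (sp (En 8) 6).1 ⬝ᵥ z = 2 * z 6 - z 5 ∧ (sp (En 8) 7).1 ⬝ᵥ z = 2 * z 7 - z 2 := by
  refine ⟨?_, ?_, ?_, ?_, ?_, ?_, ?_, ?_⟩ <;> simp [sp, dotProduct, Fin.sum_univ_succ, cm, cT] <;> ring

/-- the form of `par` for a vector of norm two -/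
theorem par2 {n : ℕ} {c : ℕ → ℕ → ℤ} {d μ : Vec (Fin n)} {X : Mat (Fin n)} {G : Submonoid (Mat (Fin n))} (h : Car (cm n c) d)
    (H : Mg (cm n c) μ X G) {a b : Fin n} (hJ : ∀ i, i ≠ a → i ≠ b → Jz (cm n c) μ i) (y : Vec (Fin n)) (u v : ℤ)
    (h0 : (∀ i, i ≠ a → i ≠ b → (sp (cm n c) i).1 ⬝ᵥ y = 0) ∧ fm (cm n c) d y y = 2 ∧ a ≠ b ∧ y a * d a = u ∧ y b * d b = v) :
    ∃ z : Vec (Fin n), (∀ i, i ≠ a → i ≠ b → (sp (cm n c) i).1 ⬝ᵥ z = 0) ∧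
      u * ((sp (cm n c) a).1 ⬝ᵥ z) + v * ((sp (cm n c) b).1 ⬝ᵥ z) = -1 := by
  obtain ⟨h1, h2, h3, rfl, rfl⟩ := h0
  obtain ⟨z, h4, h5⟩ := par h H hJ y h1
  rw [h2, fm_eq, Fintype.sum_eq_add a b h3 fun i hi => by rw [h4 i hi.1 hi.2, mul_zero]] at h5
  exact ⟨z, h4, by omega⟩

theorem no7_45 {μ : Vec (Fin 7)} {X : Mat (Fin 7)} {G : Submonoid (Mat (Fin 7))} (H : Mg (En 7) μ X G)
    (hJ : ∀ i, i ≠ 4 → i ≠ 5 → Jz (En 7) μ i) : False := by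
  obtain ⟨z, h1, h2⟩ := par2 Eng.carE7 H hJ ![0, 0, 0, 0, 0, 1, 0] 0 1 (by decide +kernel)
  have k0 : (sp (En 7) 0).1 ⬝ᵥ z = 0 := h1 0 (by decide) (by decide)
  have k1 : (sp (En 7) 1).1 ⬝ᵥ z = 0 := h1 1 (by decide) (by decide)
  have k2 : (sp (En 7) 2).1 ⬝ᵥ z = 0 := h1 2 (by decide) (by decide)
  have k3 : (sp (En 7) 3).1 ⬝ᵥ z = 0 := h1 3 (by decide) (by decide)
  have k6 : (sp (En 7) 6).1 ⬝ᵥ z = 0 := h1 6 (by decide) (by decide)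
  obtain ⟨e0, e1, e2, e3, e4, e5, e6⟩ := dot7 z
  rw [show (sp (cm 7 (cT 2 7)) 4).1 ⬝ᵥ z = _ from e4, show (sp (cm 7 (cT 2 7)) 5).1 ⬝ᵥ z = _ from e5] at h2
  rw [e0] at k0
  rw [e1] at k1
  rw [e2] at k2
  rw [e3] at k3
  rw [e6] at k6
  clear e0 e1 e2 e3 e4 e5 e6 h1
  omega

theorem no7_05 {μ : Vec (Fin 7)} {X : Mat (Fin 7)} {G : Submonoid (Mat (Fin 7))} (H : Mg (En 7) μ X G)
    (hJ : ∀ i, i ≠ 0 → i ≠ 5 → Jz (En 7) μ i) : False := by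
  obtain ⟨z, h1, h2⟩ := par2 Eng.carE7 H hJ ![2, 3, 4, 3, 2, 1, 2] 2 1 (by decide +kernel)
  have k1 : (sp (En 7) 1).1 ⬝ᵥ z = 0 := h1 1 (by decide) (by decide)
  have k2 : (sp (En 7) 2).1 ⬝ᵥ z = 0 := h1 2 (by decide) (by decide)
  have k3 : (sp (En 7) 3).1 ⬝ᵥ z = 0 := h1 3 (by decide) (by decide)
  have k4 : (sp (En 7) 4).1 ⬝ᵥ z = 0 := h1 4 (by decide) (by decide)
  have k6 : (sp (En 7) 6).1 ⬝ᵥ z = 0 := h1 6 (by decide) (by decide)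
  obtain ⟨e0, e1, e2, e3, e4, e5, e6⟩ := dot7 z
  rw [show (sp (cm 7 (cT 2 7)) 0).1 ⬝ᵥ z = _ from e0, show (sp (cm 7 (cT 2 7)) 5).1 ⬝ᵥ z = _ from e5] at h2
  rw [e1] at k1
  rw [e2] at k2
  rw [e3] at k3
  rw [e4] at k4
  rw [e6] at k6
  clear e0 e1 e2 e3 e4 e5 e6 h1
  omega

theorem no7_04 {μ : Vec (Fin 7)} {X : Mat (Fin 7)} {G : Submonoid (Mat (Fin 7))} (H : Mg (En 7) μ X G)
    (hJ : ∀ i, i ≠ 0 → i ≠ 4 → Jz (En 7) μ i) : False := by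
  obtain ⟨z, h1, h2⟩ := par2 Eng.carE7 H hJ ![2, 3, 4, 3, 2, 1, 2] 2 2 (by decide +kernel)
  have k1 : (sp (En 7) 1).1 ⬝ᵥ z = 0 := h1 1 (by decide) (by decide)
  have k2 : (sp (En 7) 2).1 ⬝ᵥ z = 0 := h1 2 (by decide) (by decide)
  have k3 : (sp (En 7) 3).1 ⬝ᵥ z = 0 := h1 3 (by decide) (by decide)
  have k5 : (sp (En 7) 5).1 ⬝ᵥ z = 0 := h1 5 (by decide) (by decide)
  have k6 : (sp (En 7) 6).1 ⬝ᵥ z = 0 := h1 6 (by decide) (by decide)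
  obtain ⟨e0, e1, e2, e3, e4, e5, e6⟩ := dot7 z
  rw [show (sp (cm 7 (cT 2 7)) 0).1 ⬝ᵥ z = _ from e0, show (sp (cm 7 (cT 2 7)) 4).1 ⬝ᵥ z = _ from e4] at h2
  rw [e1] at k1
  rw [e2] at k2
  rw [e3] at k3
  rw [e5] at k5
  rw [e6] at k6
  clear e0 e1 e2 e3 e4 e5 e6 h1
  omega

theorem no8_46 {μ : Vec (Fin 8)} {X : Mat (Fin 8)} {G : Submonoid (Mat (Fin 8))} (H : Mg (En 8) μ X G)
    (hJ : ∀ i, i ≠ 4 → i ≠ 6 → Jz (En 8) μ i) : False := by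
  obtain ⟨z, h1, h2⟩ := par2 Eng.carE8 H hJ ![2, 4, 6, 5, 4, 3, 2, 3] 4 2 (by decide +kernel)
  have k0 : (sp (En 8) 0).1 ⬝ᵥ z = 0 := h1 0 (by decide) (by decide)
  have k1 : (sp (En 8) 1).1 ⬝ᵥ z = 0 := h1 1 (by decide) (by decide)
  have k2 : (sp (En 8) 2).1 ⬝ᵥ z = 0 := h1 2 (by decide) (by decide)
  have k3 : (sp (En 8) 3).1 ⬝ᵥ z = 0 := h1 3 (by decide) (by decide)
  have k5 : (sp (En 8) 5).1 ⬝ᵥ z = 0 := h1 5 (by decide) (by decide)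
  have k7 : (sp (En 8) 7).1 ⬝ᵥ z = 0 := h1 7 (by decide) (by decide)
  obtain ⟨e0, e1, e2, e3, e4, e5, e6, e7⟩ := dot8 z
  rw [show (sp (cm 8 (cT 2 8)) 4).1 ⬝ᵥ z = _ from e4, show (sp (cm 8 (cT 2 8)) 6).1 ⬝ᵥ z = _ from e6] at h2
  rw [e0] at k0
  rw [e1] at k1
  rw [e2] at k2
  rw [e3] at k3
  rw [e5] at k5
  rw [e7] at k7
  clear e0 e1 e2 e3 e4 e5 e6 e7 h1
  omega

theorem no8_45 {μ : Vec (Fin 8)} {X : Mat (Fin 8)} {G : Submonoid (Mat (Fin 8))} (H : Mg (En 8) μ X G)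
    (hJ : ∀ i, i ≠ 4 → i ≠ 5 → Jz (En 8) μ i) : False := by
  obtain ⟨z, h1, h2⟩ := par2 Eng.carE8 H hJ ![2, 4, 6, 5, 4, 2, 1, 3] 4 2 (by decide +kernel)
  have k0 : (sp (En 8) 0).1 ⬝ᵥ z = 0 := h1 0 (by decide) (by decide)
  have k1 : (sp (En 8) 1).1 ⬝ᵥ z = 0 := h1 1 (by decide) (by decide)
  have k2 : (sp (En 8) 2).1 ⬝ᵥ z = 0 := h1 2 (by decide) (by decide)
  have k3 : (sp (En 8) 3).1 ⬝ᵥ z = 0 := h1 3 (by decide) (by decide)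
  have k6 : (sp (En 8) 6).1 ⬝ᵥ z = 0 := h1 6 (by decide) (by decide)
  have k7 : (sp (En 8) 7).1 ⬝ᵥ z = 0 := h1 7 (by decide) (by decide)
  obtain ⟨e0, e1, e2, e3, e4, e5, e6, e7⟩ := dot8 z
  rw [show (sp (cm 8 (cT 2 8)) 4).1 ⬝ᵥ z = _ from e4, show (sp (cm 8 (cT 2 8)) 5).1 ⬝ᵥ z = _ from e5] at h2
  rw [e0] at k0
  rw [e1] at k1
  rw [e2] at k2
  rw [e3] at k3
  rw [e6] at k6
  rw [e7] at k7
  clear e0 e1 e2 e3 e4 e5 e6 e7 h1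
  omega

theorem no8_06 {μ : Vec (Fin 8)} {X : Mat (Fin 8)} {G : Submonoid (Mat (Fin 8))} (H : Mg (En 8) μ X G)
    (hJ : ∀ i, i ≠ 0 → i ≠ 6 → Jz (En 8) μ i) : False := by
  obtain ⟨z, h1, h2⟩ := par2 Eng.carE8 H hJ ![2, 4, 6, 5, 4, 3, 2, 3] 2 2 (by decide +kernel)
  have k1 : (sp (En 8) 1).1 ⬝ᵥ z = 0 := h1 1 (by decide) (by decide)
  have k2 : (sp (En 8) 2).1 ⬝ᵥ z = 0 := h1 2 (by decide) (by decide)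
  have k3 : (sp (En 8) 3).1 ⬝ᵥ z = 0 := h1 3 (by decide) (by decide)
  have k4 : (sp (En 8) 4).1 ⬝ᵥ z = 0 := h1 4 (by decide) (by decide)
  have k5 : (sp (En 8) 5).1 ⬝ᵥ z = 0 := h1 5 (by decide) (by decide)
  have k7 : (sp (En 8) 7).1 ⬝ᵥ z = 0 := h1 7 (by decide) (by decide)
  obtain ⟨e0, e1, e2, e3, e4, e5, e6, e7⟩ := dot8 z
  rw [show (sp (cm 8 (cT 2 8)) 0).1 ⬝ᵥ z = _ from e0, show (sp (cm 8 (cT 2 8)) 6).1 ⬝ᵥ z = _ from e6] at h2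
  rw [e1] at k1
  rw [e2] at k2
  rw [e3] at k3
  rw [e4] at k4
  rw [e5] at k5
  rw [e7] at k7
  clear e0 e1 e2 e3 e4 e5 e6 e7 h1
  omega

theorem no8_05 {μ : Vec (Fin 8)} {X : Mat (Fin 8)} {G : Submonoid (Mat (Fin 8))} (H : Mg (En 8) μ X G)
    (hJ : ∀ i, i ≠ 0 → i ≠ 5 → Jz (En 8) μ i) : False := by
  obtain ⟨z, h1, h2⟩ := par2 Eng.carE8 H hJ ![0, 1, 2, 2, 2, 2, 1, 1] 0 2 (by decide +kernel)
  have k1 : (sp (En 8) 1).1 ⬝ᵥ z = 0 := h1 1 (by decide) (by decide)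
  have k2 : (sp (En 8) 2).1 ⬝ᵥ z = 0 := h1 2 (by decide) (by decide)
  have k3 : (sp (En 8) 3).1 ⬝ᵥ z = 0 := h1 3 (by decide) (by decide)
  have k4 : (sp (En 8) 4).1 ⬝ᵥ z = 0 := h1 4 (by decide) (by decide)
  have k6 : (sp (En 8) 6).1 ⬝ᵥ z = 0 := h1 6 (by decide) (by decide)
  have k7 : (sp (En 8) 7).1 ⬝ᵥ z = 0 := h1 7 (by decide) (by decide)
  obtain ⟨e0, e1, e2, e3, e4, e5, e6, e7⟩ := dot8 z
  rw [show (sp (cm 8 (cT 2 8)) 0).1 ⬝ᵥ z = _ from e0, show (sp (cm 8 (cT 2 8)) 5).1 ⬝ᵥ z = _ from e5] at h2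
  rw [e1] at k1
  rw [e2] at k2
  rw [e3] at k3
  rw [e4] at k4
  rw [e6] at k6
  rw [e7] at k7
  clear e0 e1 e2 e3 e4 e5 e6 e7 h1
  omega

end Rk88

open Rk88 in
/-- **[Tab]** -/
theorem boxTab : BoxTab := by
  refine ⟨fun μ X G H hD => ⟨hD, fun i hi => ?_⟩, fun μ X G H hD => ⟨hD, fun i hi => ?_⟩, fun μ X G H hD => ?_⟩
  · have h1 : 2 ≤ co (En 6) μ := (boxRk3 _ _ μ X G Eng.carE6 H).1
    have h2 : ∀ i j : Fin 6, Dn 6 i ∨ i = 0 ∨ i = 4 := by unfold Dn; decide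
    rcases h2 i i with e | rfl | rfl
    · exact Or.inl e
    · exact absurd (co_one (a := 4) fun k hk => (h2 k k).elim (hD k) fun e => e.resolve_right hk ▸ hi) (by omega)
    · exact absurd (co_one (a := 0) fun k hk => (h2 k k).elim (hD k) fun e => e.resolve_left hk ▸ hi) (by omega)
  · have h2 : ∀ i : Fin 7, Dn 7 i ∨ i = 0 ∨ i = 4 ∨ i = 5 := by unfold Dn; decide
    rcases h2 i with e | rfl | rfl | rfl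
    · exact Or.inl e
    · exact (no7_45 H fun k a b => (h2 k).elim (hD k) fun e => (show k = 0 by tauto) ▸ hi).elim
    · exact (no7_05 H fun k a b => (h2 k).elim (hD k) fun e => (show k = 4 by tauto) ▸ hi).elim
    · exact (no7_04 H fun k a b => (h2 k).elim (hD k) fun e => (show k = 5 by tauto) ▸ hi).elim
  · have h2 : ∀ i : Fin 8, Dn 8 i ∨ i = 0 ∨ i = 4 ∨ i = 5 ∨ i = 6 := by unfold Dn; decide
    refine or_iff_not_imp_right.2 fun h => ⟨hD, fun i hi => ?_⟩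
    rw [not_and_or, not_not, not_not] at h
    rcases h2 i with e | rfl | rfl | rfl | rfl
    · exact Or.inl e
    · exact (h.elim (fun h => no8_46 H fun k a b => (h2 k).elim (hD k) fun e => (show k = 0 ∨ k = 5 by tauto).elim (· ▸ hi) (· ▸ h))
        fun h => no8_45 H fun k a b => (h2 k).elim (hD k) fun e => (show k = 0 ∨ k = 6 by tauto).elim (· ▸ hi) (· ▸ h)).elim
    · exact (h.elim (fun h => no8_06 H fun k a b => (h2 k).elim (hD k) fun e => (show k = 4 ∨ k = 5 by tauto).elim (· ▸ hi) (· ▸ h))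
        fun h => no8_05 H fun k a b => (h2 k).elim (hD k) fun e => (show k = 4 ∨ k = 6 by tauto).elim (· ▸ hi) (· ▸ h)).elim
    · exact Or.inr ⟨rfl, by decide⟩
    · exact Or.inr ⟨rfl, by decide⟩

end Cfsg.Agent.BZ.RT.Cx
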