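import Cfsg.Agent.BZ.RT.Cx.OmT
import Cfsg.Agent.BZ.RT.Cx.F6
import Cfsg.Agent.BZ.RT.Cx.Rk3
import Cfsg.Agent.BZ.RT.Cg.Fix
import Cfsg.Agent.BZ.RT.Ck.K1

/-!
# BZ / RT / Cx : the systems over `D₄` (helper68)
-/

set_option autoImplicit false
set_option linter.unusedSectionVars false

namespace Cfsg.Agent.BZ.RT.Cx

open Cfsg Matrix Cfsg.Agent.DL Cfsg.Agent.HZ.L Cfsg.Agent.BZ.TA Cfsg.Agent.BZ.TA.Cl Cfsg.Agent.OM.Cu Cfsg.Agent.BZ.RT.Z2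

namespace Om68

theorem d4 (u v : V4) : u ⬝ᵥ v = u 0 * v 0 + u 1 * v 1 + u 2 * v 2 + u 3 * v 3 := by simp [dotProduct, Fin.sum_univ_four]

theorem nn (u : V4) : 0 ≤ u ⬝ᵥ u := Finset.sum_nonneg fun _ _ => mul_self_nonneg _

theorem lst {u : V4} (h : u ⬝ᵥ u ≤ 8) : (u ⬝ᵥ u = 4 → u ∈ S) ∧ (u ⬝ᵥ u = 8 → u ∈ Lg) := by
  rw [d4] at h ⊢
  have k : ∀ a b c d : ℤ, a * a + b * b + c * c + d * d ≤ 8 → a ∈ [(-2 : ℤ), -1, 0, 1, 2] := fun a b c d h => by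
    have h1 : -3 < a := by nlinarith [mul_self_nonneg b, mul_self_nonneg c, mul_self_nonneg d]
    have h2 : a < 3 := by nlinarith [mul_self_nonneg b, mul_self_nonneg c, mul_self_nonneg d]
    simp only [List.mem_cons, List.not_mem_nil, or_false]
    omega
  have e : ![u 0, u 1, u 2, u 3] = u := funext fun i => by fin_cases i <;> rfl
  have := tA _ (k (u 0) (u 1) (u 2) (u 3) h) _ (k (u 1) (u 0) (u 2) (u 3) (by linarith)) _ (k (u 2) (u 1) (u 0) (u 3) (by linarith)) _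
    (k (u 3) (u 1) (u 2) (u 0) (by linarith))
  rwa [e] at this

theorem short {u : V4} (h : u ⬝ᵥ u = 4) : u ∈ S := (lst (by omega)).1 h

theorem long {u : V4} (h : u ⬝ᵥ u = 8) : u ∈ Lg := (lst (by omega)).2 h

theorem hex {u v w : V4} (h : InK u v w) : ∃ x y : ℤ, w = x • u + y • v := by
  rcases h with rfl | rfl | rfl | rfl | rfl | rfl
  exacts [⟨1, 0, by module⟩, ⟨-1, 0, by module⟩, ⟨0, 1, by module⟩, ⟨0, -1, by module⟩, ⟨1, 1, by module⟩, ⟨-1, -1, by module⟩]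

theorem not8 {u v w w' : V4} (h1 : u ⬝ᵥ u = 4) (h2 : v ⬝ᵥ v = 4) (h3 : u ⬝ᵥ v = -2) (h : InK u v w) (h' : InK u v w') :
    (w - w') ⬝ᵥ (w - w') ≠ 8 := by
  have h4 : v ⬝ᵥ u = -2 := (dotProduct_comm _ _).trans h3
  rcases h with rfl | rfl | rfl | rfl | rfl | rfl <;> rcases h' with rfl | rfl | rfl | rfl | rfl | rfl <;>
    simp only [sub_dotProduct, dotProduct_sub, add_dotProduct, dotProduct_add, neg_dotProduct, dotProduct_neg, h1, h2, h3, h4] <;> decide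

variable {n : ℕ} {Φ : RS (Fin n)} {μ v w : Vec (Fin n)} {X g h : Mat (Fin n)} {G : Submonoid (Mat (Fin n))}
  {a b c : Vec (Fin n) × Vec (Fin n)}

local notation "Λ" => Matrix.mulVec (Lm n)
local notation "U" => Matrix.mulVec (Um n)
local notation "Y" => Matrix.mulVec (Ym n)
local notation "B" => fm (En n) fun _ => 1

section Kit

variable (hn : R3 n)
include hn

theorem form (v w : Vec (Fin n)) : 4 * B v w = Λ v ⬝ᵥ Λ w + U v ⬝ᵥ U w := by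
  have h := congrArg (fun M => v ⬝ᵥ M *ᵥ w) (kt hn).1
  simp only [add_mulVec, dotProduct_add, ← mulVec_mulVec, smul_mulVec, dotProduct_smul, smul_eq_mul, mulVec_transpose] at h
  rw [E8q.fm1, ← h, dotProduct_comm v, dotProduct_comm v, ← dotProduct_mulVec, ← dotProduct_mulVec, dotProduct_comm (Λ v),
    dotProduct_comm (U v)]

theorem rt (ha : a ∈ Rc (En n)) (v : Vec (Fin n)) : 4 * (a.1 ⬝ᵥ v) = Λ a.2 ⬝ᵥ Λ v + U a.2 ⬝ᵥ U v := by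
  rw [← form hn, E8q.fm1, E8q.dot' (F6c.car hn) ha]

theorem inj (h1 : Λ v = Λ w) (h2 : U v = U w) : v = w := sub_eq_zero.1 (RsP.fm_zero (F6c.car hn) (by
  have := form hn (v - w) (v - w)
  rw [mulVec_sub, mulVec_sub, h1, h2, sub_self, sub_self, dotProduct_zero] at this
  omega))

theorem par (v : Vec (Fin n)) : (∀ r, (U v r - U v 0) % 2 = 0) ∧ (Λ v 0 - U v 0) % 2 = 0 ∧ (sm4 (Λ v) + sm4 (U v)) % 4 = 0 := by
  have h := (kt hn).2.1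
  have k : ∀ (m : ℤ) (f : Fin n → ℤ), (∀ j, f j % m = 0) → (∑ j, f j * v j) % m = 0 := fun m f h =>
    Int.emod_eq_zero_of_dvd (Finset.dvd_sum fun j _ => (Int.dvd_of_emod_eq_zero (h j)).mul_right _)
  refine ⟨fun r => ?_, ?_, ?_⟩
  · simpa only [sub_mul, Finset.sum_sub_distrib, mulVec, dotProduct] using k 2 _ fun j => (h j).1 r
  · simpa only [sub_mul, Finset.sum_sub_distrib, mulVec, dotProduct] using k 2 _ fun j => (h j).2.1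
  · simpa only [sm4, add_mul, Finset.sum_add_distrib, mulVec, dotProduct] using k 4 _ fun j => (h j).2.2

theorem tri (ha : a ∈ Rc (En n)) : (U a.2 = 0 ∧ Λ a.2 ⬝ᵥ Λ a.2 = 8) ∨ (Λ a.2 = 0 ∧ U a.2 ⬝ᵥ U a.2 = 8) ∨
    (U a.2 ⬝ᵥ U a.2 = 4 ∧ Λ a.2 ⬝ᵥ Λ a.2 = 4) := by
  have h1 := rt hn ha a.2
  rw [RsP.two (F6c.car hn) ha] at h1
  obtain ⟨m, h2⟩ : 4 ∣ U a.2 ⬝ᵥ U a.2 := by
    have k := (par hn a.2).1
    obtain ⟨x, hx⟩ := Int.dvd_of_emod_eq_zero (k 1)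
    obtain ⟨y, hy⟩ := Int.dvd_of_emod_eq_zero (k 2)
    obtain ⟨z, hz⟩ := Int.dvd_of_emod_eq_zero (k 3)
    rw [sub_eq_iff_eq_add] at hx hy hz
    exact ⟨U a.2 0 * U a.2 0 + U a.2 0 * (x + y + z) + x * x + y * y + z * z, by rw [d4, hx, hy, hz]; ring⟩
  have h3 := nn (U a.2)
  have h4 := nn (Λ a.2)
  rw [← dotProduct_self_eq_zero, ← dotProduct_self_eq_zero (v := Λ a.2)]
  omega

theorem u_off (h : ∀ i, ¬ Dn n i → v i = w i) : U v = U w := funext fun r => by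
  show ∑ i, Um n r i * v i = ∑ i, Um n r i * w i
  refine Finset.sum_congr rfl fun i _ => ?_
  by_cases k : Dn n i
  · rw [(kt hn).2.2.2.2.2.2.1 i k r, zero_mul, zero_mul]
  · rw [h i k]

theorem off_u (h : U v = U w) {i : Fin n} (hi : ¬ Dn n i) : v i = w i := by
  obtain ⟨m, e⟩ := (kt hn).2.2.2.2.2.2.2.1 i hi
  have := congrArg (ff m ⬝ᵥ ·) h
  simp only [dotProduct_mulVec, e, single_dotProduct] at this
  omega

theorem mem_d4 : a ∈ D4 n ↔ a ∈ Rc (En n) ∧ U a.2 = 0 := and_congr_right fun _ =>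
  ⟨fun h => (u_off hn (w := 0) h).trans (mulVec_zero _), fun h _ hi => off_u hn (w := 0) (h.trans (mulVec_zero _).symm) hi⟩

theorem ex_d {x : V4} (hx : x ∈ Lg) : ∃ d ∈ D4 n, Λ d.2 = x ∧ U d.2 = 0 := by
  obtain ⟨h1, h2⟩ := (kt hn).2.2.2.2.2.1 x hx
  obtain ⟨d, hd, e⟩ := F6c.root_of (F6c.car hn) (v := dl n x) (by
    have := form hn (dl n x) (dl n x)
    rw [h1, h2, tN.2.2 x hx, dotProduct_zero] at this
    omega)
  exact ⟨d, (mem_d4 hn).2 ⟨hd, e ▸ h2⟩, e ▸ h1, e ▸ h2⟩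

theorem perp : Perp (D4 n) v ↔ Λ v = 0 := by
  refine ⟨fun h => ?_, fun h a ha => ?_⟩
  · have k : ∀ x ∈ Lg, x ⬝ᵥ Λ v = 0 := fun x hx => by
      obtain ⟨d, hd, e1, e2⟩ := ex_d hn hx
      have := rt hn hd.1 v
      rw [h d hd, e1, e2, zero_dotProduct] at this
      omega
    have k1 := k ![2, 2, 0, 0] (by decide)
    have k2 := k ![2, -2, 0, 0] (by decide)
    have k3 := k ![0, 0, 2, 2] (by decide)
    have k4 := k ![0, 0, 2, -2] (by decide)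
    simp only [d4, cons_val] at k1 k2 k3 k4
    exact funext fun i => by fin_cases i <;> simp <;> omega
  · have := rt hn ha.1 v
    rw [h, ((mem_d4 hn).1 ha).2, dotProduct_zero, zero_dotProduct] at this
    omega

theorem ly (v : Vec (Fin n)) : Λ (Y v) = 0 := by rw [mulVec_mulVec, (kt hn).2.2.1, zero_mulVec]

theorem uy (v : Vec (Fin n)) : U (Y v) = (2 : ℤ) • U v := by rw [mulVec_mulVec, (kt hn).2.2.2.1, smul_mulVec]

theorem y_eq (h1 : Λ v = 0) (h2 : U v = (2 : ℤ) • U w) : v = Y w := inj hn (h1.trans (ly hn w).symm) (h2.trans (uy hn w).symm)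

theorem ry (ha : a ∈ Rc (En n)) (v : Vec (Fin n)) : 2 * (a.1 ⬝ᵥ Y v) = U a.2 ⬝ᵥ U v := by
  have := rt hn ha (Y v)
  rw [ly hn, uy hn, dotProduct_zero, dotProduct_smul, smul_eq_mul] at this
  omega

theorem yy (v w : Vec (Fin n)) : B (Y v) (Y w) = U v ⬝ᵥ U w := by
  have := form hn (Y v) (Y w)
  rw [ly hn, uy hn, uy hn, zero_dotProduct, dotProduct_smul, smul_dotProduct, smul_eq_mul, smul_eq_mul] at this
  omega

theorem u_ww (hh : h ∈ WW (D4 n)) (v : Vec (Fin n)) : U (h *ᵥ v) = U v := by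
  induction hh using Submonoid.closure_induction generalizing v with
  | mem x hx =>
    obtain ⟨d, hd, rfl⟩ := hx
    rw [OM.Cu.rfm_mulVec, mulVec_sub, mulVec_smul, ((mem_d4 hn).1 hd).2, smul_zero, sub_zero]
  | one => rw [one_mulVec]
  | mul x y _ _ hx hy => rw [← mulVec_mulVec, hx, hy]

end Kit

omit n in
theorem fix_ww {R : Type} [Fintype R] [DecidableEq R] {L : RS R} {h : Mat R} {v : Vec R} (hh : h ∈ WW L) (hv : Perp L v) : h *ᵥ v = v := by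
  induction hh using Submonoid.closure_induction with
  | mem x hx =>
    obtain ⟨d, hd, rfl⟩ := hx
    rw [OM.Cu.rfm_mulVec, hv d hd, zero_smul, sub_zero]
  | one => rw [one_mulVec]
  | mul x y _ _ hx hy => rw [← mulVec_mulVec, hy, hx]

/-- closed systems over `D₄` -/
structure Cl (Φ : RS (Fin n)) : Prop where
  hn : R3 n
  sub : Φ ⊆ Rc (En n)
  ng : ∀ a ∈ Φ, -a ∈ Φ
  cl : ∀ a ∈ Φ, Nm (rfm a) Φ
  dd : D4 n ⊆ Φ

/-- the short vectors of a system -/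
def Sh (Φ : RS (Fin n)) (u : V4) : Prop := u ⬝ᵥ u = 4 ∧ ∃ a ∈ Φ, U a.2 = u

namespace Cl

variable (H : Cl Φ)
include H

theorem rf (ha : a ∈ Φ) (hb : b ∈ Φ) : ∃ c ∈ Φ, c.2 = b.2 - (a.1 ⬝ᵥ b.2) • a.2 :=
  let ⟨c, hc, e, _⟩ := H.cl a ha b hb
  ⟨c, hc, by rw [← e, OM.Cu.rfm_mulVec]⟩

theorem step (ha : a ∈ Φ) {x : V4} (hx : x ∈ Lg) (e : Λ a.2 ⬝ᵥ x = -4) : ∃ c ∈ Φ, Λ c.2 = Λ a.2 + x ∧ U c.2 = U a.2 := by
  obtain ⟨d, hd, e1, e2⟩ := ex_d H.hn hx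
  obtain ⟨c, hc, e3⟩ := H.rf (H.dd hd) ha
  have := rt H.hn hd.1 a.2
  rw [e1, e2, zero_dotProduct, dotProduct_comm x, e] at this
  rw [show d.1 ⬝ᵥ a.2 = -1 by omega, neg_smul, one_smul, sub_neg_eq_add] at e3
  exact ⟨c, hc, by rw [e3, mulVec_add, e1], by rw [e3, mulVec_add, e2, add_zero]⟩

theorem lam (ha : a ∈ Φ) (h : U a.2 ⬝ᵥ U a.2 = 4) : Λ a.2 ⬝ᵥ Λ a.2 = 4 := by
  rcases tri H.hn (H.sub ha) with k | k | k
  · rw [k.1, dotProduct_zero] at h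
    omega
  · omega
  · exact k.2

theorem mov (ha : a ∈ Φ) (h : U a.2 ⬝ᵥ U a.2 = 4) {x : V4} (hx : x ∈ S) (h1 : (Λ a.2 0 - x 0) % 2 = 0) (h2 : (sm4 (Λ a.2) - sm4 x) % 4 = 0) :
    ∃ c ∈ Φ, Λ c.2 = x ∧ U c.2 = U a.2 := by
  obtain ⟨y, hy, k1, k2, k3⟩ := tM _ (short (H.lam ha h)) x hx h1 h2
  obtain ⟨b, hb, b1, b2⟩ := H.step ha hy k1
  obtain ⟨c, hc, c1, c2⟩ := H.step hb k3 (b1 ▸ k2)
  exact ⟨c, hc, by rw [c1, b1]; abel, c2.trans b2⟩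

theorem neg {u : V4} (h : Sh Φ u) : Sh Φ (-u) :=
  let ⟨h1, a, ha, e⟩ := h
  ⟨by rw [neg_dotProduct_neg, h1], -a, H.ng a ha, by rw [Prod.snd_neg, mulVec_neg, e]⟩

theorem add {u u' : V4} (h : Sh Φ u) (h' : Sh Φ u') (e : u ⬝ᵥ u' = -2) : Sh Φ (u + u') := by
  obtain ⟨h1, a, ha, rfl⟩ := h
  obtain ⟨h2, b, hb, rfl⟩ := h'
  refine ⟨by simp only [add_dotProduct, dotProduct_add, h1, h2, e, dotProduct_comm (U b.2) (U a.2)]; rfl, ?_⟩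
  have key : ∀ b ∈ Φ, U a.2 ⬝ᵥ U b.2 = -2 → Λ a.2 ⬝ᵥ Λ b.2 = -2 → ∃ c ∈ Φ, U c.2 = U a.2 + U b.2 := fun b hb e e' => by
    obtain ⟨c, hc, e3⟩ := H.rf ha hb
    have := rt H.hn (H.sub ha) b.2
    rw [show a.1 ⬝ᵥ b.2 = -1 by omega, neg_smul, one_smul, sub_neg_eq_add] at e3
    exact ⟨c, hc, by rw [e3, mulVec_add, add_comm]⟩
  have k1 := rt H.hn (H.sub ha) b.2
  have k2 := H.lam ha h1
  have k3 := short (H.lam hb h2)
  rcases tG _ (short k2) _ k3 with k | k | k | k | k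
  · rw [k] at k1
    omega
  · rw [k, dotProduct_neg] at k1
    omega
  · omega
  · exact key b hb e k
  · obtain ⟨c, hc, c1, c2⟩ := H.mov hb h2 (tN.2.1 _ k3).1 (tN.2.1 _ k3).2.1 (tN.2.1 _ k3).2.2
    exact c2 ▸ key c hc (c2 ▸ e) (by rw [c1, dotProduct_neg, k])

theorem ink {u u' x : V4} (h : Sh Φ u) (h' : Sh Φ u') (e : u ⬝ᵥ u' = -2) (k : InK u u' x) : Sh Φ x := by
  rcases k with rfl | rfl | rfl | rfl | rfl | rfl
  exacts [h, H.neg h, h', H.neg h', H.add h h' e, H.neg (H.add h h' e)]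

theorem ink' {u u' x : V4} (h : Sh Φ u) (h' : Sh Φ u') (k : InK' u u' x) : Sh Φ x :=
  k.elim (fun k => H.ink h h' k.1 k.2) fun k => H.ink h (H.neg h') k.1 k.2

open Classical in
theorem cnt : (Finset.univ.filter fun t : Ix => Sh Φ (sv t.2.1) ∧ Sh Φ (vv t.2.2)).card ∈ [0, 2, 8, 32] := by
  have e : ∀ p : Fin 4 → Prop, ![decide (p 0), decide (p 1), decide (p 2), decide (p 3)] = fun i => decide (p i) := fun p =>
    funext fun i => by fin_cases i <;> rfl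
  have := tE (Sh Φ (sv 0)) (Sh Φ (sv 1)) (Sh Φ (sv 2)) (Sh Φ (sv 3)) (Sh Φ (vv 0)) (Sh Φ (vv 1)) (Sh Φ (vv 2)) (Sh Φ (vv 3))
    (Sh Φ (cv 0)) (Sh Φ (cv 1)) (Sh Φ (cv 2)) (Sh Φ (cv 3))
  rw [e fun i => Sh Φ (sv i), e fun i => Sh Φ (vv i), e fun i => Sh Φ (cv i)] at this
  simp only [decide_eq_true_eq] at this
  exact this fun i j => ⟨⟨fun k => H.ink' k.1 k.2 (tF i j).1, fun k => H.ink' k.1 k.2 (tF i j).2.1⟩, fun k => H.ink' k.1 k.2 (tF i j).2.2⟩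

end Cl

/-- the data -/
structure Dt (μ : Vec (Fin n)) (X : Mat (Fin n)) (G : Submonoid (Mat (Fin n))) (Φ : RS (Fin n)) : Prop where
  hn : R3 n
  ms : Ms (En n) μ X G Φ
  xw : X ∈ Wc (En n)
  j4 : J4 n μ
  lv : lev Φ μ = D4 n

namespace Dt

variable (H : Dt μ X G Φ)
include H

theorem cl : Cl Φ := ⟨H.hn, H.ms.sub, H.ms.ng, H.ms.cl, fun _ h => (H.lv.ge h).1⟩

theorem lμ : Λ μ = 0 := (perp H.hn).1 fun _ h => (H.lv.ge h).2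

theorem zero (ha : a ∈ Φ) (h : a.1 ⬝ᵥ μ = 0) : U a.2 = 0 := ((mem_d4 H.hn).1 (H.lv.le ⟨ha, h⟩)).2

theorem ell (h : X *ᵥ v = v) : Perp (lev (Rc (En n)) μ) v := fun a ha => by_contra fun k =>
  H.ms.ell ⟨_, Ck.isE_int h, a, ha, by rw [Ck.ev_int]; exact_mod_cast k⟩

theorem dl : D4 n ⊆ lev (Rc (En n)) μ := fun _ h => ⟨h.1, (H.lv.ge h).2⟩

theorem ff_eq (h : ∀ i, ¬ Jz (En n) μ i → v i = w i) {m : Fin 4} (hm : (m : ℕ) < 2) : ff m ⬝ᵥ U v = ff m ⬝ᵥ U w := by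
  obtain ⟨i, h1, h2, e⟩ := (kt H.hn).2.2.2.2.2.2.2.2.1 m hm
  rw [dotProduct_mulVec, dotProduct_mulVec, e, single_dotProduct, single_dotProduct,
    h i fun k => (H.j4.2 i k).elim h1 fun k => by omega]

theorem dich (hb : b ∈ lev (Rc (En n)) μ) : b ∈ D4 n ∨ Λ b.2 = 0 := by
  rcases tri H.hn hb.1 with k | k | k
  exacts [.inl ((mem_d4 H.hn).2 ⟨hb.1, k.1⟩), .inr k.1, by
    have e := fun m => H.ff_eq (w := 0) (m := m) ((ParT.zero_iff (F6c.car H.hn) H.ms.dom hb.1).1 hb.2)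
    simp only [mulVec_zero, dotProduct_zero] at e
    exact ((tN.1 _ (short k.1)).elim (· (e 0 (by decide))) (· (e 1 (by decide)))).elim]

theorem dec : (∀ v i, ¬ Jz (En n) μ i → (X *ᵥ v) i = v i) ∧ ∃ h ∈ WW (D4 n), ∀ v w, Λ v = Λ w → Λ (X *ᵥ v) = Λ (h *ᵥ w) := by
  have hX := ParT.stab (F6c.car H.hn) H.ms.dom H.xw H.ms.fx
  generalize X = Z at hX
  induction hX using Submonoid.closure_induction with
  | mem x hx =>
    obtain ⟨b, hb, rfl⟩ := hx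
    refine ⟨fun v i hi => by rw [OM.Cu.rfm_mulVec, Pi.sub_apply, Pi.smul_apply,
      (ParT.zero_iff (F6c.car H.hn) H.ms.dom hb.1).1 hb.2 i hi, smul_zero, sub_zero], ?_⟩
    rcases H.dich hb with k | k
    · refine ⟨_, rfm_mem k, fun v w e => ?_⟩
      have k1 := rt H.hn hb.1 v
      have k2 := rt H.hn hb.1 w
      rw [((mem_d4 H.hn).1 k).2, zero_dotProduct] at k1 k2
      rw [e] at k1
      rw [OM.Cu.rfm_mulVec, OM.Cu.rfm_mulVec, mulVec_sub, mulVec_sub, e, show b.1 ⬝ᵥ v = b.1 ⬝ᵥ w by omega]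
    · exact ⟨1, one_mem _, fun v w e => by rw [OM.Cu.rfm_mulVec, mulVec_sub, mulVec_smul, k, smul_zero, sub_zero, one_mulVec, e]⟩
  | one => exact ⟨fun v i _ => by rw [one_mulVec], 1, one_mem _, fun v w e => by rw [one_mulVec, one_mulVec, e]⟩
  | mul x y _ _ hx hy =>
    obtain ⟨x1, h, h1, h2⟩ := hx
    obtain ⟨y1, h', h3, h4⟩ := hy
    exact ⟨fun v i hi => by rw [← mulVec_mulVec, x1 _ i hi, y1 _ i hi], h * h', mul_mem h1 h3, fun v w e => by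
      rw [← mulVec_mulVec, ← mulVec_mulVec]; exact h2 _ _ (h4 v w e)⟩

theorem uμ (ha : a ∈ Φ) : 4 * (a.1 ⬝ᵥ μ) = U a.2 ⬝ᵥ U μ := by rw [rt H.hn (H.ms.sub ha), H.lμ, dotProduct_zero, zero_add]

/-- two roots with the same value at `μ` and the same part in `D₄` -/
theorem same (ha : a ∈ Φ) (hb : b ∈ Φ) (h1 : Λ a.2 = Λ b.2) (h2 : a.1 ⬝ᵥ μ = b.1 ⬝ᵥ μ) : a.1 ⬝ᵥ b.2 ≠ 1 := fun e => by
  obtain ⟨c, hc, e3⟩ := H.cl.rf ha hb
  rw [e, one_smul] at e3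
  have k1 := H.uμ hc
  rw [e3, mulVec_sub, sub_dotProduct, ← H.uμ ha, ← H.uμ hb] at k1
  have k2 := rt H.hn (H.ms.sub hc) c.2
  rw [H.zero hc (by omega), e3, mulVec_sub, h1, sub_self, ← e3, RsP.two (F6c.car H.hn) (H.ms.sub hc)] at k2
  simp at k2

theorem xu (ha : a ∈ Φ) (h : U a.2 ⬝ᵥ U a.2 = 4) : U (X *ᵥ a.2) = U a.2 := by
  obtain ⟨-, w, hw, e⟩ := H.dec
  obtain ⟨b, hb, b1, b2⟩ := H.ms.nx a ha
  obtain ⟨c, hc, c1, -⟩ := Nm.of_WW H.ms.cl (WW_mono H.cl.dd hw) a ha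
  have k1 : U c.2 = U a.2 := c1 ▸ u_ww H.hn hw _
  have k2 : Λ c.2 = Λ b.2 := by rw [← c1, ← b1, e _ _ rfl]
  have k3 : b.1 ⬝ᵥ μ = a.1 ⬝ᵥ μ := by rw [← b2, ← dotProduct_mulVec, H.ms.fx]
  have k4 := H.uμ ha
  have k5 := H.uμ hb
  have k6 := H.uμ hc
  have k7 := H.cl.lam hc (k1 ▸ h)
  have k8 := rt H.hn (H.ms.sub hc) b.2
  have k9 := rt H.hn (H.ms.sub hb) b.2
  rw [RsP.two (F6c.car H.hn) (H.ms.sub hb), ← k2, k7] at k9
  rw [k1] at k6 k8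
  rw [← k2, k7] at k8
  have k10 := H.same hc hb k2 (by omega)
  rw [b1]
  rcases tG _ (short h) _ (short (show U b.2 ⬝ᵥ U b.2 = 4 by omega)) with k | k | k | k | k
  · exact k
  · rw [k, neg_dotProduct] at k5
    rw [H.zero ha (by omega), dotProduct_zero] at h
    omega
  all_goals omega

theorem xy (ha : a ∈ Φ) (h : U a.2 ⬝ᵥ U a.2 = 4) : X *ᵥ Y a.2 = Y a.2 := by
  obtain ⟨-, w, hw, e⟩ := H.dec
  have k3 := short (H.cl.lam ha h)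
  obtain ⟨c, hc, c1, c2⟩ := H.cl.mov ha h (tN.2.1 _ k3).1 (tN.2.1 _ k3).2.1 (tN.2.1 _ k3).2.2
  have k : a.2 + c.2 = Y a.2 := y_eq H.hn (by rw [mulVec_add, c1, add_neg_cancel]) (by rw [mulVec_add, c2, two_smul])
  refine y_eq H.hn ?_ ?_
  · rw [e _ 0 ((ly H.hn _).trans (mulVec_zero _).symm), mulVec_zero, mulVec_zero]
  · rw [← k, mulVec_add, mulVec_add, H.xu ha h, H.xu hc (c2 ▸ h), c2, two_smul]

theorem gy (hg : g ∈ G) (ha : a ∈ Φ) (h : U a.2 ⬝ᵥ U a.2 = 4) : ∃ b ∈ Φ, U b.2 ⬝ᵥ U b.2 = 4 ∧ g *ᵥ Y a.2 = Y b.2 := by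
  have R := boxRs _ _ (F6c.car H.hn)
  obtain ⟨w, hw, h1⟩ := H.ms.vc g hg
  have h2 : w * g ∈ G := mul_mem (H.ms.wg hw) hg
  have h3 := Nm.of_WW H.ms.cl h1
  have h4 : Nm (w * g) (D4 n) := fun d hd => by
    obtain ⟨b, hb, b1, b2⟩ := h3 d (H.cl.dd hd)
    obtain ⟨c, hc, c1, -⟩ := (H.ms.gn _ h2).1 d (H.dl hd)
    exact ⟨b, H.lv.le ⟨hb, (R.ext b (H.ms.sub hb) c hc.1 (b1.symm.trans c1)) ▸ hc.2⟩, b1, b2⟩
  obtain ⟨m, m1, m2⟩ := fin_ord R (R.nm _ (H.ms.gw h2))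
  obtain ⟨b, hb, b1, b2⟩ := h3 a ha
  have k1 : Λ ((w * g) *ᵥ Y a.2) = 0 := (perp H.hn).1 fun d hd => by
    obtain ⟨x, hx, -, x2⟩ := Ck.Mp.surj m1 m2 h4 hd
    rw [dotProduct_mulVec, x2, (perp H.hn).2 (ly H.hn _) x hx]
  have k2 := form H.hn ((w * g) *ᵥ Y a.2) ((w * g) *ᵥ Y a.2)
  rw [R.iso _ (H.ms.gw h2), yy H.hn, h, k1, dotProduct_zero] at k2
  have k3 := rt H.hn (H.ms.sub hb) ((w * g) *ᵥ Y a.2)
  have k4 := ry H.hn (H.ms.sub ha) a.2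
  rw [dotProduct_mulVec b.1, b2, k1, dotProduct_zero] at k3
  generalize e : U ((w * g) *ᵥ Y a.2) = z at k2 k3
  have k5 : (z - (2 : ℤ) • U b.2) ⬝ᵥ (z - (2 : ℤ) • U b.2) = 4 * (U b.2 ⬝ᵥ U b.2) - 16 := by
    simp only [sub_dotProduct, dotProduct_sub, smul_dotProduct, dotProduct_smul, smul_eq_mul, dotProduct_comm z (U b.2)]
    omega
  have k6 : U b.2 ⬝ᵥ U b.2 = 4 := by
    rcases tri H.hn (H.ms.sub hb) with k | k | k
    · rw [k.1, zero_dotProduct] at k3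
      omega
    · have k7 := H.cl.lam ha h
      rw [(perp H.hn).1 fun d hd => by
        obtain ⟨x, hx, -, x2⟩ := h4 d hd
        rw [← x2, ← dotProduct_mulVec, b1, (perp H.hn).2 k.1 x hx], dotProduct_zero] at k7
      omega
    · exact k.1
  rw [k6] at k5
  have k7 : (w * g) *ᵥ Y a.2 = Y b.2 := y_eq H.hn k1 (e.trans (sub_eq_zero.1 (dotProduct_self_eq_zero.1 k5)))
  obtain ⟨u, u1, u2, -⟩ := WW_inv (fun x hx => R.two x hx.1) hw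
  refine ⟨b, hb, k6, ?_⟩
  rw [← fix_ww u1 (H.ell (H.xy hb k6)), ← k7, mulVec_mulVec _ u, ← mul_assoc, u2, one_mul]

theorem mx (h : Mx Φ μ a) : U a.2 ⬝ᵥ U a.2 = 4 := by
  obtain ⟨ha, h1, b, hb, h2⟩ := h
  rcases tri H.hn (H.ms.sub ha) with k | k | k
  · exact (h1 (H.lv.ge ((mem_d4 H.hn).2 ⟨H.ms.sub ha, k.1⟩)).2).elim
  · exact (h2 ((perp H.hn).2 k.1 b (H.lv.le hb))).elim
  · exact k.1

theorem ot (h : ∀ u u', Sh Φ u → Sh Φ u' → u ⬝ᵥ u' ≠ -2) : Ot (En n) μ X Φ := by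
  refine ⟨fun a => Y a.2, fun a ha => ⟨H.xy ha.1 (H.mx ha), fun v hv => ?_, ?_, fun b hb => ?_⟩⟩ <;> beta_reduce
  · have k0 := (perp H.hn).1 fun d hd => H.ell hv d (H.dl hd)
    have k1 := form H.hn v (Y a.2)
    have k2 := rt H.hn (H.ms.sub ha.1) v
    rw [k0, zero_dotProduct, uy H.hn, dotProduct_smul, smul_eq_mul, dotProduct_comm] at k1
    rw [k0, dotProduct_zero] at k2
    omega
  · have := ry H.hn (H.ms.sub ha.1) a.2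
    rw [H.mx ha] at this
    omega
  · have k1 := ry H.hn (H.ms.sub hb.1) a.2
    have s1 : Sh Φ (U a.2) := ⟨H.mx ha, a, ha.1, rfl⟩
    have s2 : Sh Φ (U b.2) := ⟨H.mx hb, b, hb.1, rfl⟩
    rw [dotProduct_comm (U b.2)] at k1
    rcases tG _ (short s1.1) _ (short s2.1) with k | k | k | k | k
    · exact .inl (y_eq H.hn (ly H.hn _) (by rw [uy H.hn, k]))
    · exact .inr (.inl (y_eq H.hn (by rw [mulVec_neg, ly H.hn, neg_zero]) (by rw [mulVec_neg, uy H.hn, k, smul_neg])).symm)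
    · exact .inr (.inr (by omega))
    · exact (h _ _ s1 s2 k).elim
    · exact (h _ _ s1 (H.cl.neg s2) (by rw [dotProduct_neg, k])).elim

/-- the frame -/
theorem f6 {Ψ : RS (Fin n)} (hΨ : Cl Ψ) (hs : Ψ ⊆ Φ) {t : Ix} (h1 : Sh Ψ (u1 t)) (h2 : Sh Ψ (u2 t))
    (h3 : ∀ u, Sh Ψ u → InK (u1 t) (u2 t) u) : F6 Ψ (D4 n) (lev (Rc (En n)) μ) X := by
  obtain ⟨t1, t2, t3, t4, t5, t6, t7, -⟩ := tC t
  obtain ⟨-, a', ha', a1⟩ := h1
  obtain ⟨-, b', hb', b1⟩ := h2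
  have p1 := par H.hn a'.2
  have p2 := par H.hn b'.2
  rw [a1] at p1
  rw [b1] at p2
  obtain ⟨a, ha, a2, a3⟩ := hΨ.mov ha' (a1 ▸ t1) (x := ![-1, -1, -1, 1]) (by decide) (by show (_ - -1) % 2 = 0; omega)
    (by show (_ - -2) % 4 = 0; omega)
  obtain ⟨b, hb, b2, b3⟩ := hΨ.mov hb' (b1 ▸ t2) (x := ![-2, 0, 0, 0]) (by decide) (by show (_ - -2) % 2 = 0; omega)
    (by show (_ - -2) % 4 = 0; omega)
  rw [a1] at a3
  rw [b1] at b3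
  obtain ⟨x1, w, hw, e⟩ := H.dec
  have k0 : ∀ c ∈ Ψ, ∀ i, Dn n i → 4 * c.1 i = (Λ c.2 ᵥ* Lm n) i := fun c hc i hi => by
    have := rt H.hn (hΨ.sub hc) (Pi.single i 1)
    rwa [u_off H.hn (v := Pi.single i 1) (w := 0) fun j hj => Pi.single_eq_of_ne (fun e : j = i => hj (e ▸ hi)) _, mulVec_zero,
      dotProduct_zero, add_zero, dotProduct_mulVec, dotProduct_single, dotProduct_single, mul_one, mul_one] at this
  have k1 : ∀ c ∈ Ψ, U c.2 ⬝ᵥ U c.2 = 4 → X *ᵥ c.2 = w *ᵥ c.2 := fun c hc k =>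
    inj H.hn (e _ _ rfl) ((H.xu (hs hc) k).trans (u_ww H.hn hw _).symm)
  refine F6c.f6_of H.hn hΨ.sub hΨ.cl hΨ.dd ha hb (fun i hi => ?_) (fun i hi => ?_) ?_ H.ms.nm hw (fun i hi => ?_) (k1 a ha (a3 ▸ t1))
    (k1 b hb (b3 ▸ t2)) fun β hβ => ?_
  · have := k0 a ha i hi
    rw [a2, ((kt H.hn).2.2.2.2.2.2.2.2.2 i hi).1] at this
    omega
  · have := k0 b hb i hi
    rw [b2, ((kt H.hn).2.2.2.2.2.2.2.2.2 i hi).2] at this
    omega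
  · have := rt H.hn (hΨ.sub ha) b.2
    rw [a2, b2, a3, b3, t3, show (![-1, -1, -1, 1] : V4) ⬝ᵥ ![-2, 0, 0, 0] = 2 by decide] at this
    omega
  · have k : sp (En n) i ∈ D4 n := ⟨RsP.mem i, fun j hj => Pi.single_eq_of_ne (fun e : j = i => hj (e ▸ hi)) _⟩
    obtain ⟨c, hc, c1, -⟩ := ParT.nm_lev H.ms.nx H.ms.fx _ (H.lv.ge k)
    exact inj H.hn (e _ _ rfl) ((c1 ▸ ((mem_d4 H.hn).1 (H.lv.le hc)).2 : U (X *ᵥ (sp (En n) i).2) = 0).trans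
      ((u_ww H.hn hw _).trans ((mem_d4 H.hn).1 k).2).symm)
  rcases tri H.hn (hΨ.sub hβ) with k | k | k
  · exact .inl ⟨0, 0, fun i hi => by rw [((mem_d4 H.hn).2 ⟨hΨ.sub hβ, k.1⟩).2 i hi, zero_mul, zero_mul, add_zero]⟩
  swap
  · obtain ⟨x, y, k1⟩ := hex (h3 _ ⟨k.1, β, hβ, rfl⟩)
    exact .inl ⟨x, y, fun i hi => off_u H.hn (w := x • a.2 + y • b.2) (by rw [k1, mulVec_add, mulVec_smul, mulVec_smul, a3, b3]) hi⟩
  have n0 : β.1 ⬝ᵥ μ ≠ 0 := fun z => by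
    rw [H.zero (hs hβ) z, dotProduct_zero] at k
    omega
  have o : ∀ c ∈ Ψ, U c.2 ⬝ᵥ U c.2 = 4 → β.1 ⬝ᵥ c.2 = 0 := fun c hc k1 => by
    obtain ⟨d, hd, d1⟩ := hΨ.rf hβ hc
    have k2 : U c.2 - U d.2 = (β.1 ⬝ᵥ c.2) • U β.2 := by rw [d1, mulVec_sub, mulVec_smul, sub_sub_cancel]
    have k3 := rt H.hn (hΨ.sub hd) d.2
    rw [RsP.two (F6c.car H.hn) (hΨ.sub hd), show Λ d.2 = Λ c.2 by rw [d1, mulVec_sub, mulVec_smul, k.1, smul_zero, sub_zero],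
      hΨ.lam hc k1] at k3
    have k4 := not8 t1 t2 t3 (h3 _ ⟨k1, c, hc, rfl⟩) (h3 _ ⟨by omega, d, hd, rfl⟩)
    rw [k2, smul_dotProduct, dotProduct_smul, k.2] at k4
    rcases E8q.le_one (F6c.car H.hn) (hΨ.sub hβ) (hΨ.sub hc) with (z | z) | z
    · rw [z] at k
      omega
    · rw [z, mulVec_neg, mulVec_neg, neg_dotProduct_neg] at k
      omega
    · obtain z | z | z : β.1 ⬝ᵥ c.2 = 0 ∨ β.1 ⬝ᵥ c.2 = 1 ∨ β.1 ⬝ᵥ c.2 = -1 := by omega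
      exacts [z, (k4 (by rw [z]; rfl)).elim, (k4 (by rw [z]; rfl)).elim]
  refine .inr ⟨fun z => n0 z.2, ?_, fun i hi => ?_, o a ha (a3 ▸ t1), o b hb (b3 ▸ t2)⟩
  · obtain ⟨c, hc, c1, c2⟩ := H.ms.nx β (hs hβ)
    have z1 : Λ c.2 = 0 := by rw [← c1, e _ 0 (k.1.trans (mulVec_zero _).symm), mulVec_zero, mulVec_zero]
    have z2 := rt H.hn (H.ms.sub hc) c.2
    rw [RsP.two (F6c.car H.hn) (H.ms.sub hc), z1, dotProduct_zero] at z2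
    have z3 : ∀ i, ¬ Jz (En n) μ i → β.2 i = c.2 i := fun i hi => by rw [← c1, x1 _ i hi]
    rcases tL _ (long k.2) _ (long (show U c.2 ⬝ᵥ U c.2 = 8 by omega)) (H.ff_eq z3 (by decide)) (H.ff_eq z3 (by decide)) with z | z | z
    · exact c1.trans (inj H.hn (z1.trans k.1.symm) z)
    · have z4 := rt H.hn (hΨ.sub hβ) c.2
      rw [z1, dotProduct_zero] at z4
      exact (H.same (hs hβ) hc (k.1.trans z1.symm) (by rw [← c2, ← dotProduct_mulVec, H.ms.fx]) (by omega)).elim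
    · refine (n0 ((ParT.zero_iff (F6c.car H.hn) H.ms.dom (hΨ.sub hβ)).2 fun i hi => ?_)).elim
      obtain ⟨m, e⟩ := (kt H.hn).2.2.2.2.2.2.2.1 i fun z => hi (H.j4.1 i z)
      have := z m
      simp only [dotProduct_mulVec, e, single_dotProduct] at this
      have := this (by rw [z3 i hi])
      omega
  · have := k0 β hβ i hi
    rw [k.1, zero_vecMul, Pi.zero_apply] at this
    omega

theorem three {u u' x : V4} (h : Sh Φ u) (h' : Sh Φ u') (e : u ⬝ᵥ u' = -2) (hx : Sh Φ x) (hc : co (En n) μ ≤ 2) : InK u u' x := by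
  refine (tH _ (short h.1) _ (short h'.1) e _ (short hx.1)).resolve_right fun k => ?_
  obtain ⟨h1, a, ha, rfl⟩ := h
  obtain ⟨h2, b, hb, rfl⟩ := h'
  obtain ⟨h3, c, hc', rfl⟩ := hx
  have := Rk88.le_co (F6c.car H.hn) H.ms.dom ![Y a.2, Y b.2, Y c.2] (fun j => by
    fin_cases j
    exacts [H.ell (H.xy ha h1), H.ell (H.xy hb h2), H.ell (H.xy hc' h3)]) fun z hz => by
      have k0 := congrArg U hz
      simp only [Fin.sum_univ_three, cons_val, mulVec_add, mulVec_smul, uy H.hn, mulVec_zero] at k0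
      have k1 := congrArg (U a.2 ⬝ᵥ ·) k0
      have k2 := congrArg (U b.2 ⬝ᵥ ·) k0
      have k3 := congrArg (· ⬝ᵥ U c.2) k0
      simp only [dotProduct_add, add_dotProduct, dotProduct_smul, smul_dotProduct, smul_eq_mul, dotProduct_zero, zero_dotProduct, h1, h2, h3,
        e, dotProduct_comm (U b.2) (U a.2)] at k1 k2 k3
      simp only [List.mem_cons, List.not_mem_nil, or_false, Prod.mk.injEq] at k
      have : z 0 = 0 ∧ z 1 = 0 ∧ z 2 = 0 := by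
        rcases k with k | k | k | k | k | k <;> rw [k.1] at k1 k3 <;> rw [k.2] at k2 k3 <;> omega
      intro j
      fin_cases j
      exacts [this.1, this.2.1, this.2.2]
  omega

end Dt

/-- reduction -/
def rd (v : Vec (Fin n)) : Fin n → ZMod 3 := fun i => (v i : ℤ)

theorem rd_iff : rd v = rd w ↔ ∀ i, (3 : ℤ) ∣ (v - w) i :=
  funext_iff.trans (forall_congr' fun _ => eq_comm.trans (ZMod.intCast_eq_intCast_iff_dvd_sub _ _ 3))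

theorem rd_mul (g : Mat (Fin n)) (v : Vec (Fin n)) : rd (g *ᵥ v) = g.map (Int.castRingHom (ZMod 3)) *ᵥ rd v :=
  funext fun i => RingHom.map_mulVec (Int.castRingHom (ZMod 3)) g v i

theorem dvd_mv {m : ℕ} (M : Matrix (Fin m) (Fin 4) ℤ) {u : V4} (h : ∀ r, u r % 3 = 0) (i : Fin m) : (3 : ℤ) ∣ (M *ᵥ u) i :=
  show (3 : ℤ) ∣ ∑ r, M i r * u r from Finset.dvd_sum fun r _ => (Int.dvd_of_emod_eq_zero (h r)).mul_left _

theorem Dt.fixed (H : Dt μ X G Φ) {u u' : V4} (h : Sh Φ u) (h' : Sh Φ u') (e : u ⬝ᵥ u' = -2) :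
    ∃ (t : Ix), ∃ a ∈ Φ, ∃ b ∈ Φ, U a.2 = u1 t ∧ U b.2 = u2 t ∧ ∀ g ∈ G, ∀ i, (3 : ℤ) ∣ (g *ᵥ (Y a.2 - Y b.2) - (Y a.2 - Y b.2)) i := by
  classical
  let φ : Ix → Fin n → ZMod 3 := fun t => rd ((2 : ℤ) • M2 n *ᵥ (u1 t - u2 t))
  let F := Finset.univ.filter fun t : Ix => Sh Φ (sv t.2.1) ∧ Sh Φ (vv t.2.2)
  have k0 : ∀ (v w : Vec (Fin n)) (t : Ix), (∀ r, (U v - U w - (u1 t - u2 t)) r % 3 = 0) → rd (Y v - Y w) = φ t := fun v w t k =>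
    rd_iff.2 fun i => by
      have k1 := congrFun (congrArg (· *ᵥ (v - w)) (kt H.hn).2.2.2.2.1) i
      have k2 := dvd_mv (M2 n) k i
      simp only [smul_mulVec, ← mulVec_mulVec, mulVec_sub, Pi.smul_apply, Pi.sub_apply, smul_eq_mul] at k1 k2 ⊢
      omega
  have k1 : ∀ t ∈ F, ∃ a ∈ Φ, ∃ b ∈ Φ, U a.2 = u1 t ∧ U b.2 = u2 t ∧ rd (Y a.2 - Y b.2) = φ t := fun t ht => by
    obtain ⟨-, -, -, -, -, -, -, t1, t2, -⟩ := tC t
    obtain ⟨s1, s2⟩ := (Finset.mem_filter.1 ht).2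
    obtain ⟨-, a, ha, a1⟩ : Sh Φ (u1 t) := t1.elim (· ▸ s1) (· ▸ H.cl.neg s1)
    obtain ⟨-, b, hb, b1⟩ : Sh Φ (u2 t) := t2.elim (· ▸ s2) (· ▸ H.cl.neg s2)
    exact ⟨a, ha, b, hb, a1, b1, k0 _ _ t fun r => by rw [a1, b1, sub_self]; rfl⟩
  have k2 : ∀ a ∈ Φ, ∀ b ∈ Φ, U a.2 ⬝ᵥ U a.2 = 4 → U b.2 ⬝ᵥ U b.2 = 4 → U a.2 ⬝ᵥ U b.2 = -2 → rd (Y a.2 - Y b.2) ∈ φ '' F :=
    fun a ha b hb h1 h2 e => by
      obtain ⟨t, t1, t2, -, -, t3⟩ := tB _ (short h1) _ (short h2) e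
      exact ⟨t, Finset.mem_filter.2 ⟨Finset.mem_univ _, H.cl.ink ⟨h1, a, ha, rfl⟩ ⟨h2, b, hb, rfl⟩ e t1,
        H.cl.ink ⟨h1, a, ha, rfl⟩ ⟨h2, b, hb, rfl⟩ e t2⟩, (k0 _ _ t t3).symm⟩
  obtain ⟨z, ⟨t, ht, rfl⟩, hz⟩ := Cg.fix Nat.prime_three G (fun g z => g.map (Int.castRingHom (ZMod 3)) *ᵥ z)
    (fun a b x => by rw [Matrix.map_mul, mulVec_mulVec]) (Ω := φ '' F) (by
      rintro g hg _ ⟨t, ht, rfl⟩
      obtain ⟨a, ha, b, hb, a1, b1, e⟩ := k1 t ht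
      obtain ⟨t1, t2, t3, -⟩ := tC t
      obtain ⟨a', ha', a2, a3⟩ := H.gy hg ha (a1 ▸ t1)
      obtain ⟨b', hb', b2, b3⟩ := H.gy hg hb (b1 ▸ t2)
      rw [← e, ← rd_mul, mulVec_sub, a3, b3]
      exact k2 a' ha' b' hb' a2 b2 (by rw [← yy H.hn, ← a3, ← b3, RsP.iso (F6c.car H.hn) (H.ms.gw hg), yy H.hn, a1, b1, t3]))
    (fun g hg => (H.ms.gl g hg).imp fun i hi => by
      rintro _ ⟨t, ht, rfl⟩
      obtain ⟨a, ha, b, hb, a1, b1, e⟩ := k1 t ht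
      obtain ⟨t1, t2, -⟩ := tC t
      rw [← e, ← rd_mul, mulVec_sub, fix_ww hi (H.ell (H.xy ha (a1 ▸ t1))), fix_ww hi (H.ell (H.xy hb (b1 ▸ t2)))]) (by
      rw [Set.InjOn.ncard_image fun t ht t' ht' e => tD t t' fun r => ?_, Set.ncard_coe_finset]
      · obtain ⟨h1, a, ha, rfl⟩ := h
        obtain ⟨h2, b, hb, rfl⟩ := h'
        obtain ⟨t, ht, -⟩ := k2 a ha b hb h1 h2 e
        have k3 := Finset.card_pos.2 ⟨t, ht⟩
        have k4 : F.card ∈ [0, 2, 8, 32] := by convert H.cl.cnt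
        simp only [List.mem_cons, List.not_mem_nil, or_false] at k4
        omega
      · obtain ⟨a, -, b, -, a1, b1, e1⟩ := k1 t ht
        obtain ⟨a', -, b', -, a2, b2, e2⟩ := k1 t' ht'
        have k3 : (3 : ℤ) ∣ U (Y a.2 - Y b.2 - (Y a'.2 - Y b'.2)) r :=
          show (3 : ℤ) ∣ ∑ i, Um n r i * _ from Finset.dvd_sum fun i _ => (rd_iff.1 (e1.trans (e.trans e2.symm)) i).mul_left _
        simp only [mulVec_sub, uy H.hn, a1, b1, a2, b2, Pi.sub_apply, Pi.smul_apply, smul_eq_mul] at k3 ⊢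
        omega)
  obtain ⟨a, ha, b, hb, a1, b1, e⟩ := k1 t ht
  exact ⟨t, a, ha, b, hb, a1, b1, fun g hg => rd_iff.1 (by rw [rd_mul, e, hz g hg])⟩

theorem Cl.zx (H : Cl Φ) (hx : Λ v = 0) : Cl (Zx Φ v) where
  hn := H.hn
  sub _ h := H.sub h.1
  ng a h := ⟨H.ng a h.1, by rw [Prod.fst_neg, neg_dotProduct]; exact h.2.neg_right⟩
  cl a h b h' := by
    obtain ⟨c, hc, c1, c2⟩ := H.cl a h.1 b h'.1
    refine ⟨c, ⟨hc, ?_⟩, c1, c2⟩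
    have k := h'.2
    rw [← c2, OM.Cu.vecMul_rfm, sub_dotProduct, smul_dotProduct, smul_eq_mul] at k
    exact (dvd_sub_left (h.2.mul_left _)).1 k
  dd a h := ⟨H.dd h, by rw [(perp H.hn).2 hx a h]; exact dvd_zero _⟩

end Om68

open Om68 in
/-- **[Om]** -/
theorem boxOm : BoxOm := fun n hn μ X G Φ h1 h2 h3 h4 => by
  have H : Dt μ X G Φ := ⟨hn, h1, h2, h3, h4⟩
  refine or_iff_not_imp_left.2 fun k => ?_
  obtain ⟨u, u', s1, s2, e⟩ : ∃ u u', Sh Φ u ∧ Sh Φ u' ∧ u ⬝ᵥ u' = -2 := by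
    by_contra k'
    exact k (H.ot fun u u' s1 s2 e => k' ⟨u, u', s1, s2, e⟩)
  obtain ⟨t, a, ha, b, hb, a1, b1, hg⟩ := H.fixed s1 s2 e
  obtain ⟨t1, t2, t3, -, -, -, -, -, -, t4⟩ := tC t
  by_cases hc : co (En n) μ ≤ 2
  · have z : ∀ c ∈ Φ, c ∈ Zx Φ 0 := fun c hc => ⟨hc, by rw [dotProduct_zero]; exact dvd_zero _⟩
    exact ⟨0, ⟨fun i => by simp, fun g _ i => by simp⟩, H.f6 (H.cl.zx (mulVec_zero _)) (fun _ h => h.1) ⟨t1, a, z a ha, a1⟩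
      ⟨t2, b, z b hb, b1⟩ fun x ⟨x1, c, c1, c2⟩ => H.three ⟨t1, a, ha, a1⟩ ⟨t2, b, hb, b1⟩ t3 ⟨x1, c, c1.1, c2⟩ hc, fun _ => rfl⟩
  have z : ∀ c ∈ Φ, 2 * (c.1 ⬝ᵥ (Ym n *ᵥ a.2 - Ym n *ᵥ b.2)) = Um n *ᵥ c.2 ⬝ᵥ u1 t - Um n *ᵥ c.2 ⬝ᵥ u2 t := fun c hc => by
    rw [dotProduct_sub, mul_sub, ry hn (h1.sub hc), ry hn (h1.sub hc), a1, b1]
  have z1 := z a ha
  have z2 := z b hb
  rw [a1, t1, t3] at z1
  rw [b1, t2, dotProduct_comm (u2 t), t3] at z2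
  refine ⟨Ym n *ᵥ a.2 - Ym n *ᵥ b.2, ⟨fun i => ?_, hg⟩, H.f6 (H.cl.zx (by rw [mulVec_sub, ly hn, ly hn, sub_self])) (fun _ h => h.1)
    ⟨t1, a, ⟨ha, by omega⟩, a1⟩ ⟨t2, b, ⟨hb, by omega⟩, b1⟩ fun x ⟨x1, c, c1, c2⟩ => t4 x (short x1) ?_, fun h => (hc h).elim⟩
  · rw [mulVec_sub, H.xy ha (a1 ▸ t1), H.xy hb (b1 ▸ t2), sub_self]
    exact dvd_zero _
  · have k1 := z c c1.1
    have k2 := c1.2
    rw [c2] at k1
    omega

end Cfsg.Agent.BZ.RT.Cx
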