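import Cfsg.Agent.BZ.RT.Cx.Defs
import Cfsg.Agent.BZ.RT.Co3.Lt
import Cfsg.Agent.BZ.RT.Z2G
import Cfsg.Agent.BZ.RT.C5F
import Cfsg.Agent.OM.Cu.EngC
import Cfsg.Agent.OM.Cu.Ch

/-!
# BZ / RT : the types `E₆`, `E₇`, `E₈` at the prime three, the glue (helper28)
-/

set_option autoImplicit false
set_option linter.unusedSectionVars false

namespace Cfsg.Agent.BZ.RT.Cx

open Cfsg Matrix Cfsg.Agent.DL Cfsg.Agent.DL.PP Cfsg.Agent.KZ.Lie Cfsg.Agent.HZ.L Cfsg.Agent.BZ.TA Cfsg.Agent.BZ.TA.Cl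
  Cfsg.Agent.OM.Cu Cfsg.Agent.OM Cfsg.Agent.BZ.RT.Z2
open Cfsg.Agent.HZ.L.X (Zc Cen)

namespace Mn

theorem car {n : ℕ} (h : R3 n) : Car (En n) fun _ => 1 := by
  rcases h with rfl | rfl | rfl
  · convert Eng.carE6 using 1
    funext i; fin_cases i <;> rfl
  · convert Eng.carE7 using 1
    funext i; fin_cases i <;> rfl
  · convert Eng.carE8 using 1
    funext i; fin_cases i <;> rfl

section Comb

variable {R I : Type} [Fintype R] [DecidableEq R] [Fintype I] [DecidableEq I] {C X : Mat I} {μ : Vec I} {G : Submonoid (Mat I)}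
  {Φ L : RS I} {Ψ : RS R} {q : ℤ} {c s t : Lb I}

theorem pm1 : pm (1 : Equiv.Perm I) = 1 := Matrix.ext fun _ _ => by
  rw [one_apply]
  rfl

theorem one_of {u : ℂˣ} {k : ℤ} {i : ℕ} (hk : ¬ 3 ∣ k) (h1 : u ^ k = 1) (h2 : u ^ 3 ^ i = 1) : u = 1 := by
  have h8 : IsCoprime ((3 ^ i : ℕ) : ℤ) k := by
    rw [Nat.cast_pow]
    exact IsCoprime.pow_left ((Prime.coprime_iff_not_dvd Int.prime_three).2 hk)
  obtain ⟨a, b, e⟩ := h8
  rw [← _root_.zpow_one u, ← e, _root_.zpow_add, mul_comm a, mul_comm b, _root_.zpow_mul, _root_.zpow_mul, h1,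
    _root_.zpow_natCast, h2, _root_.one_zpow, _root_.one_zpow, mul_one]

theorem neg_zc {c : Lb R} (h : ∀ a ∈ Ψ, -a ∈ Ψ) : ∀ a ∈ Zc Ψ c, -a ∈ Zc Ψ c := fun a ha =>
  ⟨h a ha.1, by rw [Prod.snd_neg, chr_neg, ha.2, inv_one]⟩

theorem cl_zc {c : Lb R} (h : ∀ a ∈ Ψ, Nm (rfm a) Ψ) : ∀ a ∈ Zc Ψ c, Nm (rfm a) (Zc Ψ c) := fun a ha b hb => by
  obtain ⟨b', k1, k2, k3⟩ := h a ha.1 b hb.1
  refine ⟨b', ⟨k1, ?_⟩, k2, k3⟩
  rw [← k2, RsP.rfm_mulVec, chr_sub, chr_zsmul, ha.2, hb.2, _root_.one_zpow, inv_one, mul_one]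

/-- fixed labels of order a power of three are central -/
theorem cen_of (H : BoxAnI) (hC : Car C fun _ => 1) (hL : L ⊆ Rc C) (h1 : Nm X (Rc C)) (h2 : Nm X L) (h3 : An L 3 1 X)
    (hq : 3 ∣ q - 1) {i : ℕ} (ht : t ^ 3 ^ i = 1) (hT : Tl (q • X) t t) : Cen L t := fun a ha => by
  obtain ⟨k, u, k1, -, k2⟩ := H C _ L X q hC hL h1 h2 h3 hq a.2 (Submodule.subset_span ⟨a, ha, rfl⟩)
  refine one_of k1 (i := i) ?_ (by rw [← map_pow, ht, map_one])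
  rw [← chr_zsmul, ← k2, sub_mulVec, one_mulVec, chr_sub, hT, mul_inv_cancel]

theorem nm_lv (h : Nm X Φ) (fx : X *ᵥ μ = μ) : Nm X (lev Φ μ) := fun a ha =>
  let ⟨c, c1, c2, c3⟩ := h a ha.1
  ⟨c, ⟨c1, by rw [← fx, dotProduct_mulVec, c3]; exact ha.2⟩, c2, c3⟩

theorem ft (h : Md C μ X G q c s t) : Tl (q • X) t t := fun v => by
  have k1 := h.fc v
  rw [h.cs, map_mul, map_mul, h.fs v] at k1
  exact mul_left_cancel k1

theorem zc_le (h : Md C μ X G q c s t) : Zc (Rc C) c ⊆ Zc (Rc C) s := fun a ha => by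
  obtain ⟨i, hi⟩ := h.tp
  obtain ⟨n, n1, n2⟩ := h.od
  have k1 : chr a.2 s * chr a.2 t = 1 := by rw [← map_mul, ← h.cs]; exact ha.2
  have k2 : chr a.2 t ^ 3 ^ i = 1 := by rw [← map_pow, hi, map_one]
  refine ⟨ha.1, one_of (k := n) (i := i) (fun e => n1 (by exact_mod_cast e)) (by rw [_root_.zpow_natCast, ← map_pow, n2, map_one]) ?_⟩
  rw [eq_inv_of_mul_eq_one_left k1, inv_pow, k2, inv_one]

theorem nx (hC : Car C fun _ => 1) (h : Nm X (Rc C)) (hs : Tl (q • X) s s) : Nm X (Zc (Rc C) s) :=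
  let ⟨_, h1, h2⟩ := fin_ord (boxRs C _ hC) h
  nm_zc h1 h2 h hs

theorem lev_eq (H : BoxAnI) (hC : Car C fun _ => 1) (h : Md C μ X G q c s t) : lev (Zc (Rc C) c) μ = lev (Zc (Rc C) s) μ := by
  obtain ⟨i, hi⟩ := h.tp
  have k := cen_of H hC (fun _ ha => ha.1.1) h.nm (nm_lv (nx hC h.nm h.fs) h.fx) h.an h.q3 hi (ft h)
  refine Set.ext fun a => ⟨fun ha => ⟨zc_le h ha.1, ha.2⟩, fun ha => ⟨⟨ha.1.1, ?_⟩, ha.2⟩⟩
  rw [h.cs, map_mul, ha.1.2, k a ha, mul_one]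

theorem msc (H : BoxAnI) (hC : Car C fun _ => 1) (h : Md C μ X G q c s t) : Ms C μ X G (Zc (Rc C) c) where
  toMg := h.toMg
  sub := fun _ ha => ha.1
  ng := neg_zc (boxRs C _ hC).neg
  cl := cl_zc (nm_rc (boxRs C _ hC))
  nx := nx hC h.nm h.fc
  vc := h.vc
  hy := h.hy
  an := lev_eq H hC h ▸ h.an

theorem mss (H : BoxAnI) (hC : Car C fun _ => 1) (h : Md C μ X G q c s t) : Ms C μ X G (Zc (Rc C) s) where
  toMg := h.toMg
  sub := fun _ ha => ha.1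
  ng := neg_zc (boxRs C _ hC).neg
  cl := cl_zc (nm_rc (boxRs C _ hC))
  nx := nx hC h.nm h.fs
  vc := fun g hg => (h.vc g hg).imp fun _ k => ⟨k.1, WW_mono (zc_le h) k.2⟩
  hy := lev_eq H hC h ▸ h.hy
  an := h.an

theorem nm_of (h : lev Φ μ = ∅) : NM Φ μ := fun _ ⟨_, _, b, hb, _⟩ => by
  rw [h] at hb
  exact hb

theorem zx_zero : Zx Φ 0 = Φ := Set.ext fun _ => ⟨fun h => h.1, fun h => ⟨h, by rw [dotProduct_zero]; exact dvd_zero _⟩⟩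

theorem gd_of {x : Vec I} (e : lev Φ μ = L) (h : F6 (Zx Φ x) L (lev (Rc C) μ) X) : Gd C μ X (Zx Φ x) := by
  have k : lev (Zx Φ x) μ = L := by
    obtain ⟨_, _, _, _, k1, k2, _⟩ := h
    exact Set.ext fun a => ⟨fun ha => e ▸ ⟨ha.1.1, ha.2⟩, fun ha => ⟨k1 ((k2 a).1 ha).1, (e ▸ ha : a ∈ lev Φ μ).2⟩⟩
  exact Or.inr (k ▸ h)

/-- the form is the pairing -/
theorem fm1 (H : Rs C fun _ => 1) {a : Vec I × Vec I} (ha : a ∈ Rc C) (v : Vec I) : fm C (fun _ => 1) a.2 v = a.1 ⬝ᵥ v := by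
  obtain ⟨w, hw, i, k1, k2⟩ := ha
  obtain ⟨u, -, -, k3⟩ := H.inv w hw
  have k4 : v = w *ᵥ (u *ᵥ v) := by rw [mulVec_mulVec, k3, one_mulVec]
  rw [k4, ← k1, H.iso w hw, dotProduct_mulVec a.1, k2]
  simp [fm, sp, Pi.single_apply, vecMul, dotProduct, mul_comm]

theorem sym {P : Matrix R I ℤ} (H : Rs C fun _ => 1) (T : Tr P (Rc C) Ψ) : ∀ a ∈ Ψ, ∀ b ∈ Ψ, a.1 ⬝ᵥ b.2 = b.1 ⬝ᵥ a.2 := fun a ha b hb => by
  obtain ⟨a', a1, a2, -⟩ := T.dn a ha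
  obtain ⟨b', b1, b2, -⟩ := T.dn b hb
  rw [tr_dot T a1 ha a2 b2, tr_dot T b1 hb b2 a2, ← fm1 H a1, ← fm1 H b1, H.comm]

end Comb

variable {n : ℕ} {μ : Vec (Fin n)} {X : Mat (Fin n)} {G : Submonoid (Mat (Fin n))} {q : ℤ} {c s t : Lb (Fin n)}

theorem inner (hn : R3 n) (h6 : n ≠ 6) (h : Nm X (Rc (En n))) : X ∈ Wc (En n) := by
  obtain ⟨w, hw, π, h1, h2⟩ := boxCh boxRs _ _ X (car hn) h
  have : π = 1 := by
    rcases hn with rfl | rfl | rfl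
    · exact absurd rfl h6
    · exact Eng.autE7 π h1
    · exact Eng.autE8 π h1
  rw [h2, this, pm1, mul_one]
  exact hw

theorem co6 {μ : Vec (Fin 6)} (h : JD 6 μ) : co (En 6) μ ≤ 2 := by
  refine le_trans (Set.ncard_le_ncard (t := {0, 4}) (fun i hi => ?_) (Set.toFinite _)) (Set.ncard_pair (by decide)).le
  by_contra k
  refine hi (h i ?_)
  revert k
  simp only [Set.mem_insert_iff, Set.mem_singleton_iff, Dn]
  clear hi
  revert i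
  decide

/-- the second case -/
theorem big (H : Bc) (hn : R3 n) (h : Md (En n) μ X G q c s t) (hX : X ∈ Wc (En n)) (hJ : JD n μ) (h3 : 2 < co (En n) μ)
    (k : ∃ x, Ad X G x ∧ Gd (En n) μ X (Zx (Zc (Rc (En n)) s) x)) : Out (n = 6) (En n) μ X G c s t := by
  obtain ⟨i, hi⟩ := h.tp
  refine Or.inr ⟨?_, cen_of H.ani (car hn) (fun _ ha => ha.1) h.nm (nm_lv h.nm h.fx) (H.anj n hn μ X G h.toMg hX hJ ?_) h.q3 hi (ft h), k⟩
  · rintro rfl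
    exact absurd (co6 hJ) h3.not_ge
  · rcases hn with rfl | rfl | rfl <;> omega

theorem j4 (H : Bc) (hn : R3 n) (h : Md (En n) μ X G q c s t) (hX : X ∈ Wc (En n)) (hJ : J4 n μ) : Out (n = 6) (En n) μ X G c s t := by
  have hC := car hn
  rcases le_or_gt (co (En n) μ) 2 with h2 | h2
  · have m := msc H.ani hC h
    refine Or.inl ?_
    have k : Ot (En n) μ X _ → Gd (En n) μ X (Zc (Rc (En n)) c) := fun o => Or.inl ((H.tw _ μ X G _ hC m o).2 h2)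
    rcases H.sh n hn μ X G _ m hX hJ with e | o
    · rcases H.om n hn μ X G _ m hX hJ e with o | ⟨x, -, k1, k2⟩
      · exact k o
      · have := gd_of e k1
        rwa [k2 h2, zx_zero] at this
    · exact k o
  · have m := mss H.ani hC h
    refine big H hn h hX hJ.1 h2 ?_
    have k : Ot (En n) μ X _ → ∃ x, Ad X G x ∧ Gd (En n) μ X (Zx (Zc (Rc (En n)) s) x) := fun o =>
      (H.tw _ μ X G _ hC m o).1.imp fun _ e => ⟨e.1, Or.inl e.2⟩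
    rcases H.sh n hn μ X G _ m hX hJ with e | o
    · rcases H.om n hn μ X G _ m hX hJ e with o | ⟨x, k0, k1, -⟩
      · exact k o
      · exact ⟨x, k0, gd_of e k1⟩
    · exact k o

/-- **the result in the standard system** -/
theorem out (H : Bc) (hn : R3 n) (h : Md (En n) μ X G q c s t) : Out (n = 6) (En n) μ X G c s t := by
  have hC := car hn
  have m := msc H.ani hC h
  by_cases hX : X ∈ Wc (En n)
  swap
  · obtain rfl : n = 6 := by_contra fun e => hX (inner hn e h.nm)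
    exact Or.inl (Or.inl (nm_of (H.tw6 μ X G _ m hX)))
  by_cases hJ : JD n μ
  swap
  · exact Or.inl (Or.inl (nm_of (H.ta n hn μ X G _ m hX hJ)))
  rcases id hn with rfl | rfl | rfl
  · exact j4 H hn h hX (H.tab.e6 μ X G h.toMg hJ)
  · exact j4 H hn h hX (H.tab.e7 μ X G h.toMg hJ)
  rcases H.tab.e8 μ X G h.toMg hJ with h4 | ⟨h5, h6⟩
  · exact j4 H hn h hX h4
  have k : ∀ i : Fin 8, ¬ Jz (En 8) μ i → i ≠ 5 → i ≠ 6 → (Jz (En 8) μ 0 ↔ ¬ Jz (En 8) μ 4) → Out (8 = 6) (En 8) μ X G c s t :=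
    fun i i1 i2 i3 e =>
      big H hn h hX hJ ((Set.two_lt_ncard_iff (Set.toFinite _)).2 ⟨i, 5, 6, i1, h5, h6, i2, i3, by decide⟩)
        ((H.tw _ μ X G _ hC (mss H.ani hC h) (H.s5 μ X G _ (mss H.ani hC h) hX hJ h5 h6 e)).1.imp fun _ e => ⟨e.1, Or.inl e.2⟩)
  by_cases h0 : Jz (En 8) μ 0 <;> by_cases h4 : Jz (En 8) μ 4
  · exact Or.inl (Or.inl (H.s6 μ X G _ m hX hJ h5 h6 h0 h4))
  · exact k 4 h4 (by decide) (by decide) (iff_of_true h0 h4)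
  · exact k 0 h0 (by decide) (by decide) (iff_of_false h0 (not_not.2 h4))
  · refine j4 H hn h hX ⟨hJ, fun i hi => Or.inl ?_⟩
    have : i ≠ 0 ∧ i ≠ 4 ∧ i ≠ 5 ∧ i ≠ 6 :=
      ⟨fun e => h0 (e ▸ hi), fun e => h4 (e ▸ hi), fun e => h5 (e ▸ hi), fun e => h6 (e ▸ hi)⟩
    revert this
    simp only [Dn]
    clear hi
    revert i
    decide

theorem d4_eq : D4 6 = Co3.P4 := Set.ext fun a => and_congr_right fun _ =>
  ⟨fun h => ⟨h 0 (by simp only [Dn]; decide), h 4 (by simp only [Dn]; decide)⟩, fun h i hi => by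
    have : i = 0 ∨ i = 4 := by
      revert hi
      simp only [Dn]
      revert i
      decide
    rcases this with rfl | rfl
    · exact h.1
    · exact h.2⟩

/-- the two forms of the terminal labels -/
theorem t6_of {R : Type} [Fintype R] [DecidableEq R] {Ψ ΨL : RS R} {A : Mat R} {c : Lb R} {P₀ : Matrix R (Fin n) ℤ} (hn : R3 n)
    (T : Tr P₀ (Rc (En n)) Ψ) (hA : Nm A Ψ) (h : T6 Ψ A ΨL c) : Co3.T6 Ψ A ΨL c := by
  obtain ⟨ε, lam, -, -, P, Ψ₁, h, k1, k2, k3, k4, k5, k6⟩ := h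
  have H := boxRs _ _ (car hn)
  have H6 := boxRs _ _ (car (n := 6) (Or.inl rfl))
  have n1 := tr_neg H6 k1
  have n0 := neg_zc (c := c) (tr_neg H T)
  have hP : A * P = P * ((ε : ℤ) • h) := by
    rw [Matrix.mul_smul, ← k5, ← Matrix.smul_mul, smul_smul, Int.units_coe_mul_self, one_smul]
  have sg : ∀ {Θ : RS R}, (∀ b ∈ Θ, -b ∈ Θ) → ∀ b ∈ Θ, (ε : ℤ) • b ∈ Θ := fun k b hb => by
    rcases Int.units_eq_one_or ε with rfl | rfl
    · rwa [Units.val_one, one_smul]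
    · rw [Units.val_neg, Units.val_one, neg_one_smul]
      exact k b hb
  refine ⟨P, Ψ₁, Zc Ψ c \ Ψ₁, ε, h, k1, ⟨(Set.union_sdiff_cancel k2).symm, fun a ha b hb => (k6 b hb.1 hb.2).2.2.2 a ha, fun b hb => ?_,
    fun b hb => ?_⟩, d4_eq ▸ k3, d4_eq ▸ k4, hP, Co3.boxLt Ψ Ψ₁ _ P ⟨n, _, _, P₀, ?_, car hn, T⟩ (sym H T) k1 (fun _ e => (k2 e).1)
      (fun _ e => e.1.1) fun a ha b hb => ((k6 b hb.1 hb.2).2.2.2 a ha).1⟩
  · obtain ⟨a, a1, a2, -⟩ := k1.dn b hb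
    obtain ⟨a', b1, b2, -⟩ := H6.nm h (H6.ww ▸ WW_mono (fun _ e => e.1) k4) a a1
    obtain ⟨b', c1, c2, -⟩ := k1.up a' b1
    obtain ⟨e, e1, e2, e3⟩ := hA b (k2 hb).1
    have e4 : e = (ε : ℤ) • b' := T.ext _ e1 _ (k2 (sg n1 b' c1)).1 (by
      rw [← e2, ← a2, mulVec_mulVec, hP, ← mulVec_mulVec, smul_mulVec, b2, mulVec_smul, c2, Prod.smul_snd])
    exact ⟨e, e4 ▸ sg n1 b' c1, e2, e3⟩
  · obtain ⟨-, b1, b2, -⟩ := k6 b hb.1 hb.2
    refine ⟨(ε : ℤ) • b, sg (Θ := Zc Ψ c \ Ψ₁) (fun a ha => ⟨n0 a ha.1, fun e => ha.2 (neg_neg a ▸ n1 _ e)⟩) b hb, ?_, ?_⟩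
    · rw [smul_mulVec] at b1
      rw [Prod.smul_snd]
      conv_rhs => rw [← b1, smul_smul, Int.units_coe_mul_self, one_smul]
    · rw [Prod.smul_fst, smul_vecMul, ← vecMul_smul, b2]
  · rcases hn with rfl | rfl | rfl <;> omega

end Mn

variable {p : ℕ} [Fact p.Prime] {k : Type} [Field k] [CharP k p] [IsAlgClosed k] {Y : Type} [Group Y] {N : Type}
  [Fintype N] [DecidableEq N] {ρ : Y →* GL N k} {F : MulAut Y} {G : Subgroup Y} (D : Datum p ρ F G)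

open Mn

theorem c3_of (H : Bc) : BoxC3 D := fun n hn ⟨P₀, T⟩ hs B q d w ΨL V c s h => by
  obtain ⟨ε, lam, P, μ, X, G, t, i, k1, k2, k3, k4⟩ := H.dn _ P₀ _ ΨL q d _ V c s (car hn) T hs h
  exact H.up _ _ ΨL q d _ V c s t i ε lam P μ X G _ (car hn) h k1 k2 k3 k4 (out H hn k4)

/-- **the aim with the terminal labels of `Co3`** -/
theorem c3 (H : Bc) {n : ℕ} (hn : R3 n) (hS : C5.Sb D n (cT 2 n)) (hs : Lie.SC 3 (rts D)) (B : Mat D.R) :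
    Cmb D B 3 (n = 6) (Co3.T6 (rts D)) := fun q d w ΨL V c s h =>
  (c3_of D H n hn hS hs B q d w ΨL V c s h).imp fun _ e => ⟨e.1, e.2.1, e.2.2.imp id (t6_of hn hS.choose_spec h.nm)⟩

variable {j : ℕ} {B : Mat D.R}

theorem c3e6 (H : Bc) (h : Lie.Cq D j B 3) (hi : Iso (rts D) U.PE6) : Cmb D B 3 True (Co3.T6 (rts D)) := fun q d w ΨL V c s e =>
  (c3 D H (Or.inl rfl) ((C5.boxFr D).e6 hi) h.sc B q d w ΨL V c s e).imp fun _ e => ⟨e.1, fun _ => e.2.1 rfl, e.2.2⟩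

theorem c3e7 (H : Bc) (h : Lie.Cq D j B 3)
    (hi : Iso (rts D) (U.Ph Lie.chevE7 7 (ChevalleyStructure.CoxeterGeomTypes.cartanOf Lie.chevE7 7))) :
    Cmb D B 3 False (Co3.T6 (rts D)) := fun q d w ΨL V c s e =>
  (c3 D H (Or.inr (Or.inl rfl)) ((C5.boxFr D).e7 hi) h.sc B q d w ΨL V c s e).imp fun _ e => ⟨e.1, False.elim, e.2.2⟩

theorem c3e8 (H : Bc) (h : Lie.Cq D j B 3) (hi : Iso (rts D) U.PE8) : Cmb D B 3 False (Co3.T6 (rts D)) := fun q d w ΨL V c s e =>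
  (c3 D H (Or.inr (Or.inr rfl)) ((C5.boxFr D).e8 hi) h.sc B q d w ΨL V c s e).imp fun _ e => ⟨e.1, False.elim, e.2.2⟩

end Cfsg.Agent.BZ.RT.Cx
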