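import Cfsg.Agent.BZ.RT.Cx.Om42A
import Cfsg.Agent.BZ.RT.Cx.F6
import Cfsg.Agent.BZ.RT.Cx.TW
import Cfsg.Agent.BZ.RT.Cx.Rk3

/-!
# BZ / RT / Cx : the central involution of `W(D₄)` (helper42)
-/

set_option autoImplicit false
set_option linter.unusedSectionVars false
set_option maxHeartbeats 400000

namespace Cfsg.Agent.BZ.RT.Cx.Om42

open Cfsg Matrix Cfsg.Agent.DL Cfsg.Agent.HZ.L Cfsg.Agent.BZ.TA Cfsg.Agent.BZ.TA.Cl Cfsg.Agent.OM.Cu Cfsg.Agent.BZ.RT.Z2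

/-- the form -/
def bf {I : Type} [Fintype I] (C : Mat I) : Vec I →ₗ[ℤ] Vec I →ₗ[ℤ] ℤ :=
  LinearMap.mk₂ ℤ (fun u v => u ⬝ᵥ (v ᵥ* C)) (fun _ _ _ => add_dotProduct _ _ _) (fun _ _ _ => smul_dotProduct _ _ _)
    (fun _ _ _ => by rw [add_vecMul, dotProduct_add]) fun _ _ _ => by rw [smul_vecMul, dotProduct_smul]

def w6 : Mat (Fin 6) := !![1, 0, 0, 0, 0, 0; 2, -1, 0, 0, 1, 0; 2, 0, -1, 0, 2, 0; 1, 0, 0, -1, 2, 0; 0, 0, 0, 0, 1, 0; 1, 0, 0, 0, 1, -1]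

def z6 : Mat (Fin 6) := !![0, 1, 0, 0, 0, 0; 0, -1, 1, 0, 0, 0; 0, 0, -1, 1, 0, 1; 0, 0, 0, -1, 1, 0; 0, 0, 0, 0, 0, 0; 0, 0, 0, 0, 0, -1]

def w7 : Mat (Fin 7) := !![1, 0, 0, 0, 0, 0, 0; 2, -1, 0, 0, 1, 0, 0; 2, 0, -1, 0, 2, 0, 0; 1, 0, 0, -1, 2, 0, 0; 0, 0, 0, 0, 1, 0, 0; 0, 0, 0, 0, 0, 1, 0; 1, 0, 0, 0, 1, 0, -1]

def z7 : Mat (Fin 7) := !![0, 1, 0, 0, 0, 0, 0; 0, -1, 1, 0, 0, 0, 0; 0, 0, -1, 1, 0, 0, 1; 0, 0, 0, -1, 1, 0, 0; 0, 0, 0, 0, 0, 0, 0; 0, 0, 0, 0, 0, 0, 0; 0, 0, 0, 0, 0, 0, -1]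

def w8 : Mat (Fin 8) := !![1, 0, 0, 0, 0, 0, 0, 0; 2, -1, 0, 0, 1, 0, 0, 0; 2, 0, -1, 0, 2, 0, 0, 0; 1, 0, 0, -1, 2, 0, 0, 0; 0, 0, 0, 0, 1, 0, 0, 0; 0, 0, 0, 0, 0, 1, 0, 0; 0, 0, 0, 0, 0, 0, 1, 0; 1, 0, 0, 0, 1, 0, 0, -1]

def z8 : Mat (Fin 8) := !![0, 1, 0, 0, 0, 0, 0, 0; 0, -1, 1, 0, 0, 0, 0, 0; 0, 0, -1, 1, 0, 0, 0, 1; 0, 0, 0, -1, 1, 0, 0, 0; 0, 0, 0, 0, 0, 0, 0, 0; 0, 0, 0, 0, 0, 0, 0, 0; 0, 0, 0, 0, 0, 0, 0, 0; 0, 0, 0, 0, 0, 0, 0, -1]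

/-- four orthogonal roots -/
def vv (n : ℕ) (k : ℕ) : Vec (Fin n) := fun i =>
  if k = 3 then (if (i : ℕ) = 2 then 2 else if (i : ℕ) = 1 ∨ (i : ℕ) = 3 ∨ (i : ℕ) + 1 = n then 1 else 0)
  else if (k = 0 ∧ (i : ℕ) = 1) ∨ (k = 1 ∧ (i : ℕ) = 3) ∨ (k = 2 ∧ (i : ℕ) + 1 = n) then 1 else 0

/-- the reflections -/
def rr (n : ℕ) (k : ℕ) : Mat (Fin n) := rfm (vv n k ᵥ* En n, vv n k)

/-- the tables -/
structure Fc (n : ℕ) (w Z : Mat (Fin n)) (i0 i4 : Fin n) : Prop where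
  nv : ∀ k < 4, vv n k ⬝ᵥ (vv n k ᵥ* En n) = 2 ∧ ∀ i, ¬ Dn n i → vv n k i = 0
  pr : w = rr n 0 * rr n 1 * (rr n 2 * rr n 3)
  col : ∀ j, Dn n j → ∀ i, w i j = (-1 : Mat (Fin n)) i j
  row : ∀ j i, Dn n i ∨ w i j = (1 : Mat (Fin n)) i j
  z0 : ∀ j, j ≠ i0 → j ≠ i4 → ∀ i, Dn n i → (1 + w) i j = 0
  ev : ∀ i j, j ≠ i0 → j ≠ i4 → (1 + w) i j % 2 = 0
  par : ∀ i j, (En n * (1 + w) - (single i0 i4 1 + single i4 i0 1) : Mat (Fin n)) i j % 2 = 0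
  four : En n * (1 + w) = (2 : ℤ) • (En n + Z + Zᵀ - single i0 i0 1 - single i4 i4 1) - (single i0 i4 1 + single i4 i0 1)
  m0 : (En n * w) i0 i0 = 0
  m4 : (En n * w) i4 i4 = 0
  m04 : (En n * w) i4 i0 = -1
  c04 : En n i4 i0 = 0
  c0 : ∀ i, Dn n i → En n i i0 = if (i : ℕ) = 1 then -1 else 0
  c4 : ∀ i, Dn n i → En n i i4 = if (i : ℕ) = 3 then -1 else 0
  n0 : ¬ Dn n i0 ∧ ¬ 5 ≤ (i0 : ℕ)
  n4 : ¬ Dn n i4 ∧ ¬ 5 ≤ (i4 : ℕ)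
  ne : i0 ≠ i4

set_option synthInstance.maxSize 2048 in
theorem fc {n : ℕ} (hn : R3 n) : ∃ w Z i0 i4, Fc n w Z i0 i4 := by
  rcases hn with rfl | rfl | rfl
  · refine ⟨w6, z6, 0, 4, ?_, ?_, ?_, ?_, ?_, ?_, ?_, ?_, ?_, ?_, ?_, ?_, ?_, ?_, ?_, ?_, ?_⟩ <;> (try unfold Dn) <;> decide +kernel
  · refine ⟨w7, z7, 0, 4, ?_, ?_, ?_, ?_, ?_, ?_, ?_, ?_, ?_, ?_, ?_, ?_, ?_, ?_, ?_, ?_, ?_⟩ <;> (try unfold Dn) <;> decide +kernel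
  · refine ⟨w8, z8, 0, 4, ?_, ?_, ?_, ?_, ?_, ?_, ?_, ?_, ?_, ?_, ?_, ?_, ?_, ?_, ?_, ?_, ?_⟩ <;> (try unfold Dn) <;> decide +kernel

theorem ar (α β p q : ℤ) (h : α * α - α * β + β * β = α * p + β * q) (h1 : α = 0 ∨ -1 ≤ p ∧ p ≤ 1) (h2 : β = 0 ∨ -1 ≤ q ∧ q ≤ 1)
    (h3 : α = 0 ∨ β = 0 ∨ -1 ≤ p + q ∧ p + q ≤ 1) : α * α - α * β + β * β ≤ 1 := by
  by_cases a : α = 0
  · subst a
    rcases h2 with rfl | ⟨h2, h2'⟩
    · decide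
    · interval_cases q <;> nlinarith
  by_cases b : β = 0
  · subst b
    obtain ⟨h1, h1'⟩ := h1.resolve_left a
    interval_cases p <;> nlinarith
  obtain ⟨h1, h1'⟩ := h1.resolve_left a
  obtain ⟨h2, h2'⟩ := h2.resolve_left b
  obtain ⟨h3, h3'⟩ := (h3.resolve_left a).resolve_left b
  have k1 : -3 < α ∧ α < 3 ∧ -3 < β ∧ β < 3 := by
    refine ⟨?_, ?_, ?_, ?_⟩ <;> by_contra k <;> interval_cases p <;> interval_cases q <;> nlinarith [sq_nonneg (α - 2 * β), sq_nonneg (β - 2 * α)]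
  obtain ⟨k1, k2, k3, k4⟩ := k1
  interval_cases α <;> interval_cases β <;> omega

section Gen

variable {I : Type} [Fintype I] [DecidableEq I] {C : Mat I} {a b : Vec I × Vec I} {Φ : RS I} (hC : Car C fun _ => 1)
include hC

theorem bsym (u v : Vec I) : bf C u v = bf C v u := ((E8q.fm1 u v).symm.trans (RsP.fm_comm hC u v)).trans (E8q.fm1 v u)

theorem broot (ha : a ∈ Rc C) (v : Vec I) : bf C a.2 v = a.1 ⬝ᵥ v := (E8q.dot' hC ha v).symm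

theorem btwo (ha : a ∈ Rc C) : bf C a.2 a.2 = 2 := (broot hC ha _).trans (RsP.two hC ha)

theorem bpsd (v : Vec I) : 0 ≤ bf C v v := (E7P.fm_nonneg hC v).trans_eq (E8q.fm1 v v)

theorem bzero {v : Vec I} (h : bf C v v ≤ 0) : v = 0 := RsP.fm_zero hC ((E8q.fm1 v v).trans_le h)

theorem biso {g : Mat I} (hg : g ∈ Wc C) (u v : Vec I) : bf C (g *ᵥ u) (g *ᵥ v) = bf C u v :=
  ((E8q.fm1 _ _).symm.trans (RsP.iso hC hg u v)).trans (E8q.fm1 u v)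

/-- vectors of the same norm -/
theorem bcs {u v : Vec I} {m : ℤ} (hu : bf C u u = m) (hv : bf C v v = m) :
    (bf C u v ≤ m ∧ -m ≤ bf C u v) ∧ (bf C u v = m → v = u) ∧ (bf C u v = -m → v = -u) := by
  have k1 : bf C (v - u) (v - u) = 2 * m - 2 * bf C u v := by
    simp only [map_sub, LinearMap.sub_apply, hu, hv, bsym hC v u]
    ring
  have k2 : bf C (v + u) (v + u) = 2 * m + 2 * bf C u v := by
    simp only [map_add, LinearMap.add_apply, hu, hv, bsym hC v u]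
    ring
  have k3 := bpsd hC (v - u)
  have k4 := bpsd hC (v + u)
  exact ⟨by omega, fun e => sub_eq_zero.1 (bzero hC (by omega)), fun e => eq_neg_of_add_eq_zero_left (bzero hC (by omega))⟩

theorem refl (sub : Φ ⊆ Rc C) (cl : ∀ a ∈ Φ, Nm (rfm a) Φ) (ha : a ∈ Φ) (hb : b ∈ Φ) : ∃ c ∈ Φ, c.2 = b.2 - bf C a.2 b.2 • a.2 :=
  let ⟨c, hc, e, _⟩ := cl a ha b hb
  ⟨c, hc, by rw [← e, RsP.rfm_mulVec, broot hC (sub ha)]⟩

omit hC in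
theorem dvd_of {M : Mat I} (h : ∀ i j, M i j % 2 = 0) (u v : Vec I) : 2 ∣ v ⬝ᵥ M *ᵥ u :=
  Finset.dvd_sum fun i _ => (Finset.dvd_sum fun j _ => (Int.dvd_of_emod_eq_zero (h i j)).mul_right _).mul_left _

omit hC in
theorem bmat (M : Mat I) (u v : Vec I) : bf C (M *ᵥ u) v = v ⬝ᵥ (C * M) *ᵥ u :=
  (dotProduct_comm _ _).trans (by rw [← dotProduct_mulVec, mulVec_mulVec])

omit hC in
theorem dsingle (i j : I) (u v : Vec I) : v ⬝ᵥ (single i j 1 : Mat I) *ᵥ u = v i * u j := by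
  rw [single_mulVec, one_mul, ← Pi.single, dotProduct_single]

end Gen

variable {n : ℕ} {w Z : Mat (Fin n)} {i0 i4 : Fin n} {u v : Vec (Fin n)} {a b : Vec (Fin n) × Vec (Fin n)}

/-- supported on the nodes of `D₄` -/
def Sp (n : ℕ) (u : Vec (Fin n)) : Prop := ∀ i, ¬ Dn n i → u i = 0

namespace Fc

variable (hn : R3 n) (F : Fc n w Z i0 i4)
include hn F

theorem mem : w ∈ WW (D4 n) := by
  have k : ∀ k < 4, rr n k ∈ WW (D4 n) := fun k hk => by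
    obtain ⟨a, ha, e⟩ := F6c.root_of (F6c.car hn) ((E8q.fm1 _ _).trans (F.nv k hk).1)
    have e' : a.1 = vv n k ᵥ* En n := dotProduct_eq _ _ fun v => by rw [E8q.dot (F6c.car hn) ha, e, dotProduct_comm]
    exact rfm_mem (a := (_, _)) ⟨by rw [← e', ← e]; exact ha, (F.nv k hk).2⟩
  exact F.pr ▸ mul_mem (mul_mem (k 0 (by decide)) (k 1 (by decide))) (mul_mem (k 2 (by decide)) (k 3 (by decide)))

theorem wc : w ∈ Wc (En n) := RsP.ww (F6c.car hn) ▸ WW_mono (fun _ h => h.1) (F.mem hn)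

omit hn in
theorem off (v : Vec (Fin n)) (i : Fin n) (hi : ¬ Dn n i) : (w *ᵥ v) i = v i := by
  rw [← congrFun (one_mulVec v) i]
  exact congrArg (· ⬝ᵥ v) (funext fun j => (F.row j i).resolve_left hi)

omit hn in
theorem neg (h : Sp n u) : w *ᵥ u = -u := funext fun i => by
  rw [← one_mulVec u, ← neg_mulVec, mulVec_mulVec, mul_one]
  show ∑ j, w i j * u j = ∑ j, (-1 : Mat (Fin n)) i j * u j
  refine Finset.sum_congr rfl fun j _ => ?_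
  by_cases e : Dn n j
  · rw [F.col j e i]
  · exact (mul_eq_zero_of_right _ (h j e)).trans (mul_eq_zero_of_right _ (h j e)).symm

theorem fix (h : Perp (D4 n) u) : w *ᵥ u = u := TW27.ww_fix (F.mem hn) h

omit hn in
theorem sp (u : Vec (Fin n)) : Sp n (u - w *ᵥ u) := fun i hi => by rw [Pi.sub_apply, F.off u i hi, sub_self]

omit hn in
theorem sq (u : Vec (Fin n)) : w *ᵥ w *ᵥ u = u := by
  have := F.neg (F.sp u)
  rwa [mulVec_sub, neg_sub, sub_right_inj] at this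

theorem adj (u v : Vec (Fin n)) : bf (En n) (w *ᵥ u) v = bf (En n) u (w *ᵥ v) := by
  rw [← biso (F6c.car hn) (F.wc hn), F.sq]

theorem perp (h : w *ᵥ u = u) : Perp (D4 n) u := fun a ha => by
  have := F.adj hn a.2 u
  rw [h, F.neg ha.2, map_neg, LinearMap.neg_apply, broot (F6c.car hn) ha.1] at this
  omega

omit hn in
theorem y_eq (u : Vec (Fin n)) : (1 + w) *ᵥ u = u + w *ᵥ u := by rw [add_mulVec, one_mulVec]

omit hn in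
theorem y_fix (u : Vec (Fin n)) : w *ᵥ (1 + w) *ᵥ u = (1 + w) *ᵥ u := by rw [F.y_eq, mulVec_add, F.sq, add_comm]

omit hn in
theorem y_off (u : Vec (Fin n)) (i : Fin n) (hi : ¬ Dn n i) : ((1 + w) *ᵥ u) i = 2 * u i := by
  rw [F.y_eq, Pi.add_apply, F.off u i hi, two_mul]

omit hn in
theorem y_sp (h : Sp n u) : (1 + w) *ᵥ u = 0 := by rw [F.y_eq, F.neg h, add_neg_cancel]

theorem y_two (h : w *ᵥ u = u) (v : Vec (Fin n)) : bf (En n) u ((1 + w) *ᵥ v) = 2 * bf (En n) u v := by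
  rw [F.y_eq, map_add, ← F.adj hn, h, two_mul]

omit hn in
theorem y_of (h : w *ᵥ v = v) (h' : Sp n (v - (2 : ℤ) • u)) : v = (1 + w) *ᵥ u := by
  have := F.neg h'
  rw [mulVec_sub, h, mulVec_smul] at this
  refine smul_right_injective _ (two_ne_zero (α := ℤ)) ?_
  show (2 : ℤ) • v = (2 : ℤ) • _
  rw [F.y_eq, smul_add, ← sub_eq_iff_eq_add, ← sub_eq_zero, ← sub_eq_zero.2 this]
  module

omit hn in
theorem par' (u v : Vec (Fin n)) : 2 ∣ bf (En n) ((1 + w) *ᵥ u) v - (v i0 * u i4 + v i4 * u i0) := by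
  have := dvd_of F.par u v
  rwa [sub_mulVec, add_mulVec, dotProduct_sub, dotProduct_add, dsingle, dsingle, ← bmat] at this

omit hn in
theorem four' (u : Vec (Fin n)) :
    4 ∣ bf (En n) ((1 + w) *ᵥ u) u - 2 * bf (En n) u u + 2 * (u i0 * u i0 + u i0 * u i4 + u i4 * u i4) := by
  have k : u ⬝ᵥ Zᵀ *ᵥ u = u ⬝ᵥ Z *ᵥ u := by rw [mulVec_transpose, dotProduct_comm, dotProduct_mulVec]
  have k' : bf (En n) u u = u ⬝ᵥ En n *ᵥ u := (dotProduct_comm u (u ᵥ* En n)).trans (dotProduct_mulVec u _ u).symm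
  rw [bmat, F.four, k']
  simp only [sub_mulVec, add_mulVec, smul_mulVec, dotProduct_sub, dotProduct_add, dotProduct_smul, dsingle, k, smul_eq_mul]
  exact ⟨u ⬝ᵥ Z *ᵥ u, by ring⟩

/-- the three kinds of roots -/
theorem tri (ha : a ∈ Rc (En n)) : Sp n a.2 ∨ w *ᵥ a.2 = a.2 ∨
    bf (En n) ((1 + w) *ᵥ a.2) a.2 = 2 ∧ (a.2 i0 % 2 = 1 ∨ a.2 i4 % 2 = 1) := by
  have hC := F6c.car hn
  have k1 := bcs hC (btwo hC ha) ((biso hC (F.wc hn) _ _).trans (btwo hC ha))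
  have k2 := F.par' a.2 a.2
  have k3 := F.four' a.2
  have k4 : bf (En n) ((1 + w) *ᵥ a.2) a.2 = 2 + bf (En n) a.2 (w *ᵥ a.2) := by
    rw [F.y_eq, map_add, LinearMap.add_apply, F.adj hn, btwo hC ha]
  rw [mul_comm (a.2 i4)] at k2
  by_cases e : bf (En n) a.2 (w *ᵥ a.2) = -2
  · refine .inl fun i hi => ?_
    have := F.off a.2 i hi
    rw [k1.2.2 e, Pi.neg_apply] at this
    omega
  by_cases e' : bf (En n) a.2 (w *ᵥ a.2) = 2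
  · exact .inr (.inl (k1.2.1 e'))
  have k5 : bf (En n) ((1 + w) *ᵥ a.2) a.2 = 2 := by omega
  refine .inr (.inr ⟨k5, by_contra fun k => ?_⟩)
  obtain ⟨x, hx⟩ : 2 ∣ a.2 i0 := by omega
  obtain ⟨y, hy⟩ : 2 ∣ a.2 i4 := by omega
  rw [k5, btwo hC ha, hx, hy, show 2 * (2 * x * (2 * x) + 2 * x * (2 * y) + 2 * y * (2 * y)) = 8 * (x * x + x * y + y * y) by ring] at k3
  omega

end Fc

end Cfsg.Agent.BZ.RT.Cx.Om42
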