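import Cfsg.Agent.BZ.RT.Cx.Defs

/-!
# BZ / RT / Cx : coordinates over `D₄`, the tables (helper68)

`Lm n`, `Um n` are twice the projections of the lattice `Eₙ` to the span of `D₄` and to its orthogonal space.
-/

set_option autoImplicit false
set_option linter.unusedSectionVars false
set_option synthInstance.maxSize 4000
set_option synthInstance.maxHeartbeats 400000

namespace Cfsg.Agent.BZ.RT.Cx.Om68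

open Cfsg Matrix Cfsg.Agent.HZ.L

abbrev V4 := Fin 4 → ℤ

abbrev Ix := Bool × Fin 4 × Fin 4

def sv : Fin 4 → V4 := ![![1, -1, -1, -1], ![-1, 1, -1, -1], ![-1, -1, 1, -1], ![-1, -1, -1, 1]]

def cv : Fin 4 → V4 := ![![1, 1, 1, 1], ![1, 1, -1, -1], ![1, -1, 1, -1], ![1, -1, -1, 1]]

def vv : Fin 4 → V4 := ![![2, 0, 0, 0], ![0, 2, 0, 0], ![0, 0, 2, 0], ![0, 0, 0, 2]]

def kk : Fin 4 → Fin 4 → Fin 4 := ![![0, 1, 2, 3], ![1, 0, 3, 2], ![2, 3, 0, 1], ![3, 2, 1, 0]]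

def ff : Fin 4 → V4 := ![![2, 0, 0, 0], ![3, 1, 1, 1], ![2, 1, 1, 0], ![1, 1, 0, 0]]

/-- the short vectors -/
def S : List V4 := [![2, 0, 0, 0], ![0, 2, 0, 0], ![0, 0, 2, 0], ![0, 0, 0, 2], ![-2, 0, 0, 0], ![0, -2, 0, 0], ![0, 0, -2, 0],
  ![0, 0, 0, -2], ![1, 1, 1, 1], ![1, 1, 1, -1], ![1, 1, -1, 1], ![1, 1, -1, -1], ![1, -1, 1, 1], ![1, -1, 1, -1], ![1, -1, -1, 1],
  ![1, -1, -1, -1], ![-1, 1, 1, 1], ![-1, 1, 1, -1], ![-1, 1, -1, 1], ![-1, 1, -1, -1], ![-1, -1, 1, 1], ![-1, -1, 1, -1],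
  ![-1, -1, -1, 1], ![-1, -1, -1, -1]]

/-- the long vectors -/
def Lg : List V4 := [![2, 2, 0, 0], ![2, -2, 0, 0], ![-2, 2, 0, 0], ![-2, -2, 0, 0], ![2, 0, 2, 0], ![2, 0, -2, 0], ![-2, 0, 2, 0],
  ![-2, 0, -2, 0], ![2, 0, 0, 2], ![2, 0, 0, -2], ![-2, 0, 0, 2], ![-2, 0, 0, -2], ![0, 2, 2, 0], ![0, 2, -2, 0], ![0, -2, 2, 0],
  ![0, -2, -2, 0], ![0, 2, 0, 2], ![0, 2, 0, -2], ![0, -2, 0, 2], ![0, -2, 0, -2], ![0, 0, 2, 2], ![0, 0, 2, -2], ![0, 0, -2, 2],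
  ![0, 0, -2, -2]]

/-- the hexagon of two vectors -/
abbrev InK (u v w : V4) : Prop := w = u ∨ w = -u ∨ w = v ∨ w = -v ∨ w = u + v ∨ w = -(u + v)

abbrev InK' (u v w : V4) : Prop := (u ⬝ᵥ v = -2 ∧ InK u v w) ∨ (u ⬝ᵥ -v = -2 ∧ InK u (-v) w)

def u1 (t : Ix) : V4 := (if t.1 then 1 else -1 : ℤ) • sv t.2.1

def u2 (t : Ix) : V4 := (-(u1 t t.2.2)) • vv t.2.2

def sm4 (u : V4) : ℤ := u 0 + u 1 + u 2 + u 3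

theorem tA : ∀ a ∈ [(-2 : ℤ), -1, 0, 1, 2], ∀ b ∈ [(-2 : ℤ), -1, 0, 1, 2], ∀ c ∈ [(-2 : ℤ), -1, 0, 1, 2], ∀ d ∈ [(-2 : ℤ), -1, 0, 1, 2],
    (a * a + b * b + c * c + d * d = 4 → ![a, b, c, d] ∈ S) ∧ (a * a + b * b + c * c + d * d = 8 → ![a, b, c, d] ∈ Lg) := by
  decide +kernel

theorem tB : ∀ u ∈ S, ∀ v ∈ S, u ⬝ᵥ v = -2 → ∃ t : Ix, InK u v (sv t.2.1) ∧ InK u v (vv t.2.2) ∧ InK u v (u1 t) ∧ InK u v (u2 t) ∧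
    ∀ r, (u - v - (u1 t - u2 t)) r % 3 = 0 := by decide +kernel

theorem tC : ∀ t : Ix, u1 t ⬝ᵥ u1 t = 4 ∧ u2 t ⬝ᵥ u2 t = 4 ∧ u1 t ⬝ᵥ u2 t = -2 ∧ u1 t 0 % 2 = 1 ∧ u2 t 0 % 2 = 0 ∧ sm4 (u1 t) % 4 = 2 ∧
    sm4 (u2 t) % 4 = 2 ∧ (u1 t = sv t.2.1 ∨ u1 t = -sv t.2.1) ∧ (u2 t = vv t.2.2 ∨ u2 t = -vv t.2.2) ∧
    ∀ u ∈ S, (u ⬝ᵥ u1 t - u ⬝ᵥ u2 t) % 3 = 0 → InK (u1 t) (u2 t) u := by decide +kernel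

theorem tD : ∀ t t' : Ix, (∀ r, (u1 t - u2 t - (u1 t' - u2 t')) r % 3 = 0) → t = t' := by decide +kernel

theorem tE : ∀ a0 a1 a2 a3 b0 b1 b2 b3 c0 c1 c2 c3 : Bool, (∀ i j, ((![a0, a1, a2, a3] i ∧ ![b0, b1, b2, b3] j → ![c0, c1, c2, c3] (kk i j)) ∧
      (![a0, a1, a2, a3] i ∧ ![c0, c1, c2, c3] (kk i j) → ![b0, b1, b2, b3] j)) ∧
      (![b0, b1, b2, b3] j ∧ ![c0, c1, c2, c3] (kk i j) → ![a0, a1, a2, a3] i)) →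
    (Finset.univ.filter fun t : Ix => ![a0, a1, a2, a3] t.2.1 ∧ ![b0, b1, b2, b3] t.2.2).card ∈ [0, 2, 8, 32] := by decide +kernel

theorem tF : ∀ i j, InK' (sv i) (vv j) (cv (kk i j)) ∧ InK' (sv i) (cv (kk i j)) (vv j) ∧ InK' (vv j) (cv (kk i j)) (sv i) := by
  decide +kernel

theorem tG : ∀ u ∈ S, ∀ v ∈ S, v = u ∨ v = -u ∨ u ⬝ᵥ v = 0 ∨ u ⬝ᵥ v = -2 ∨ u ⬝ᵥ v = 2 := by decide +kernel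

theorem tH : ∀ u ∈ S, ∀ v ∈ S, u ⬝ᵥ v = -2 → ∀ w ∈ S, InK u v w ∨
    (u ⬝ᵥ w, v ⬝ᵥ w) ∈ [((0 : ℤ), (2 : ℤ)), (0, -2), (2, 0), (-2, 0), (2, -2), (-2, 2)] := by decide +kernel

theorem tL : ∀ u ∈ Lg, ∀ v ∈ Lg, ff 0 ⬝ᵥ u = ff 0 ⬝ᵥ v → ff 1 ⬝ᵥ u = ff 1 ⬝ᵥ v → v = u ∨ u ⬝ᵥ v = 4 ∨
    ∀ m, ff m ⬝ᵥ u = ff m ⬝ᵥ v → ff m ⬝ᵥ u = 0 := by decide +kernel

theorem tM : ∀ u ∈ S, ∀ v ∈ S, (u 0 - v 0) % 2 = 0 → (sm4 u - sm4 v) % 4 = 0 →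
    ∃ w ∈ Lg, u ⬝ᵥ w = -4 ∧ (u + w) ⬝ᵥ (v - u - w) = -4 ∧ v - u - w ∈ Lg := by decide +kernel

theorem tN : (∀ u ∈ S, ff 0 ⬝ᵥ u ≠ 0 ∨ ff 1 ⬝ᵥ u ≠ 0) ∧ (∀ u ∈ S, -u ∈ S ∧ (u 0 - (-u) 0) % 2 = 0 ∧ (sm4 u - sm4 (-u)) % 4 = 0) ∧
    ∀ w ∈ Lg, w ⬝ᵥ w = 8 := by decide +kernel

/-- the node of `E₈` -/
def nd (n : ℕ) (i : Fin n) : Fin 8 := if (i : ℕ) + 1 = n then 7 else Fin.ofNat 8 i

def Lm (n : ℕ) : Matrix (Fin 4) (Fin n) ℤ := of fun r j => (![![-1, -1, -1, 1], ![0, 0, 2, -2], ![0, 2, -2, 0], ![2, -2, 0, 0],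
  ![-2, 0, 0, 0], 0, 0, ![0, 0, 2, 2]] : Fin 8 → V4) (nd n j) r

def Um (n : ℕ) : Matrix (Fin 4) (Fin n) ℤ := of fun r j => (![![1, -1, -1, -1], 0, 0, 0, ![0, 0, 0, 2], ![0, 0, 2, -2], ![0, 2, -2, 0],
  0] : Fin 8 → V4) (nd n j) r

def M1 (n : ℕ) : Matrix (Fin n) (Fin 4) ℤ := of fun i r => (![0, ![1, 1, 1, -1], ![2, 2, 0, 0], ![2, 0, 0, 0], 0, 0, 0,
  ![1, 1, 1, 1]] : Fin 8 → V4) (nd n i) r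

def M2 (n : ℕ) : Matrix (Fin n) (Fin 4) ℤ := of fun i r => (![![4, 0, 0, 0], ![7, 1, 1, 1], ![10, 2, 2, 2], ![8, 2, 2, 2], ![6, 2, 2, 2],
  ![4, 2, 2, 0], ![2, 2, 0, 0], ![5, 1, 1, 1]] : Fin 8 → V4) (nd n i) r

/-- twice the projection -/
def Ym (n : ℕ) : Mat (Fin n) := of fun i j => (M2 n * Um n) i j / 2

def dl (n : ℕ) (w : V4) : Vec (Fin n) := fun i => (M1 n *ᵥ w) i / 4

instance (n : ℕ) (i : Fin n) : Decidable (Dn n i) := by unfold Dn; infer_instance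

/-- the facts -/
abbrev Kt (n : ℕ) : Prop :=
  (Lm n)ᵀ * Lm n + (Um n)ᵀ * Um n = (4 : ℤ) • (En n)ᵀ ∧ (∀ j, (∀ r, (Um n r j - Um n 0 j) % 2 = 0) ∧ (Lm n 0 j - Um n 0 j) % 2 = 0 ∧
    (sm4 (fun r => Lm n r j) + sm4 fun r => Um n r j) % 4 = 0) ∧ Lm n * Ym n = 0 ∧ Um n * Ym n = (2 : ℤ) • Um n ∧
    (2 : ℤ) • Ym n = M2 n * Um n ∧ (∀ w ∈ Lg, Lm n *ᵥ dl n w = w ∧ Um n *ᵥ dl n w = 0) ∧ (∀ i, Dn n i → ∀ r, Um n r i = 0) ∧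
    (∀ i, ¬ Dn n i → ∃ m, ff m ᵥ* Um n = Pi.single i 2) ∧
    (∀ m : Fin 4, (m : ℕ) < 2 → ∃ i, ¬ Dn n i ∧ (i : ℕ) < 5 ∧ ff m ᵥ* Um n = Pi.single i 2) ∧
    ∀ i, Dn n i → (![-1, -1, -1, 1] ᵥ* Lm n) i = 4 * (if (i : ℕ) = 1 then -1 else 0) ∧
      (![-2, 0, 0, 0] ᵥ* Lm n) i = 4 * if (i : ℕ) = 3 then -1 else 0

theorem kt6 : Kt 6 := by decide +kernel

theorem kt7 : Kt 7 := by decide +kernel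

theorem kt8 : Kt 8 := by decide +kernel

theorem kt {n : ℕ} (h : R3 n) : Kt n := by
  rcases h with rfl | rfl | rfl
  exacts [kt6, kt7, kt8]

end Cfsg.Agent.BZ.RT.Cx.Om68
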