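import Mathlib.Algebra.BigOperators.Fin
import Mathlib.Algebra.BigOperators.Ring.Finset
import Mathlib.Tactic.Ring
import Mathlib.Tactic.Linarith
import Mathlib.Tactic.FinCases
import Mathlib.Algebra.BigOperators.Finprod

/-!
# BZ / RT / Cx : sets of half spin weights of `D₅` (helper48)
-/

set_option autoImplicit false

namespace Cfsg.Agent.BZ.RT.Cx.S5p

/-- the even subsets of five points -/
def cd (k : ℕ) : ℕ := [0, 17, 18, 3, 20, 5, 6, 23, 24, 9, 10, 27, 12, 29, 30, 15].getD k 0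

/-- the signs -/
def sg (k : Fin 16) (i : Fin 5) : ℤ := if (cd k).testBit i then -1 else 1

/-- the products -/
def pr (k k' : Fin 16) : ℤ := ∑ i, sg k i * sg k' i

def ad (k k' : Fin 16) : Bool := (6014 : ℕ).testBit (k.val ^^^ k'.val)

def ot (k k' : Fin 16) : Bool := (59520 : ℕ).testBit (k.val ^^^ k'.val)

def x3 (k k' u : Fin 16) : Fin 16 := ⟨(k.val ^^^ k'.val ^^^ u.val) % 16, Nat.mod_lt _ (by decide)⟩

theorem ad_iff : ∀ k k', ad k k' = true ↔ pr k k' = 1 := by decide +kernel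

theorem ot_iff : ∀ k k', ot k k' = true ↔ pr k k' = -3 := by decide +kernel

theorem x3_sg : ∀ k k', ad k k' = true → ∀ u, ad k' u = true → ot k u = true → ∀ i, sg (x3 k k' u) i = sg u i + sg k i - sg k' i := by
  decide +kernel

theorem pr_cases : ∀ k k', k = k' ∨ pr k k' = 1 ∨ pr k k' = -3 := by decide +kernel

theorem pr_self : ∀ k, pr k k = 5 := by decide +kernel

theorem sg_zero : ∀ i, sg 0 i = 1 := by decide +kernel

/-- the packed weights -/
def wn (k : ℕ) : ℤ := [34087042, 532608, 532482, 34086912, 524418, 34078848, 34078722, 524288, 8322, 33562752, 33562626, 8192, 33554562,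
  128, 2, 33554432].getD k 0 - 17043521

theorem wn_eq : ∀ k : Fin 16, wn k = ∑ i : Fin 5, 64 ^ (i : ℕ) * sg k i := by decide +kernel

def hf (o x : ℕ) : ℤ := ∑ j : Fin 8, if x.testBit j then wn (o + j) else 0

def bb (hi lo : ℕ) (k : Fin 16) : Bool := if k.val < 8 then lo.testBit k else hi.testBit (k - 8)

def Rest (b : Fin 16 → Bool) : Prop := (∃ k, b k = true ∧ ∃ k', b k' = true ∧ ad k k' = true ∧ ∀ u, b u = true → ad k u = true → ad k' u = false) ∨
  (∃ k, b k = true ∧ ∃ k', b k' = true ∧ ad k k' = true ∧ ∃ u, b u = true ∧ ad k' u = true ∧ ot k u = true ∧ b (x3 k k' u) = false) ∨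
    ∀ k, b k = true

set_option synthInstance.maxSize 2048 in
theorem tab : ∀ hi < 256, ∀ lo < 256, lo.testBit 0 = true → hf 0 lo + hf 8 hi = 0 → Rest (bb hi lo) := by
  unfold Rest
  decide +kernel

theorem rest (b : Fin 16 → Bool) (h0 : b 0 = true) (sm : ∀ i, ∑ k, (if b k then sg k i else 0) = 0) : Rest b := by
  have e : bb (Nat.ofBits fun j : Fin 8 => b (Fin.natAdd 8 j)) (Nat.ofBits fun j : Fin 8 => b (Fin.castAdd 8 j)) = b := funext fun k => by
    unfold bb
    split_ifs with h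
    · rw [Nat.testBit_ofBits_lt _ _ h]
      rfl
    · rw [Nat.testBit_ofBits_lt _ _ (by omega)]
      exact congrArg b (Fin.ext (by simp only [Fin.natAdd]; omega))
  refine e ▸ tab _ (Nat.ofBits_lt_two_pow _) _ (Nat.ofBits_lt_two_pow _) ((Nat.testBit_ofBits_lt _ 0 (by decide)).trans h0) ?_
  have h1 : ∑ k : Fin (8 + 8), (if b k then wn k else 0) = 0 := by
    have : ∀ k : Fin 16, (if b k then wn k else 0) = ∑ i : Fin 5, 64 ^ (i : ℕ) * (if b k then sg k i else 0) := fun k => by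
      split_ifs
      · exact wn_eq k
      · simp
    rw [Finset.sum_congr rfl fun k _ => this k, Finset.sum_comm]
    exact Finset.sum_eq_zero fun i _ => by rw [← Finset.mul_sum, sm, mul_zero]
  rw [Fin.sum_univ_add] at h1
  simpa only [hf, Nat.testBit_ofBits_lt _ _ (Fin.is_lt _), Fin.eta, Fin.val_castAdd, Fin.val_natAdd, zero_add] using h1

/-- **closed sets with sum zero** -/
theorem pure (M : Fin 16 → Prop) (h0 : M 0)
    (cl : ∀ k k' u u', M k → M k' → M u → pr k k' = 1 → pr k' u = 1 → pr k u = -3 → (∀ i, sg u' i = sg u i + sg k i - sg k' i) → M u')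
    (sm : ∀ i, ∑ᶠ k : {k // M k}, sg k i = 0) :
    (∀ k, M k) ∨ ∃ k k', M k ∧ M k' ∧ pr k k' = 1 ∧ ∀ u, M u → pr k u = 1 → pr k' u ≠ 1 := by
  classical
  rcases rest (fun k => decide (M k)) (decide_eq_true h0) (fun i => by
    refine Eq.trans ?_ (sm i)
    rw [finsum_eq_sum_of_fintype, ← Finset.sum_filter]
    exact Finset.sum_subtype _ (by simp) _) with ⟨k, h1, k', h2, h3, h4⟩ | ⟨k, h1, k', h2, h3, u, h4, h5, h6, h7⟩ | h
  · exact .inr ⟨k, k', of_decide_eq_true h1, of_decide_eq_true h2, (ad_iff _ _).1 h3, fun u h5 h6 h7 =>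
      absurd (h4 u (decide_eq_true h5) ((ad_iff _ _).2 h6)) (by rw [(ad_iff _ _).2 h7]; decide)⟩
  · exact (of_decide_eq_false h7 (cl k k' u _ (of_decide_eq_true h1) (of_decide_eq_true h2) (of_decide_eq_true h4) ((ad_iff _ _).1 h3)
      ((ad_iff _ _).1 h5) ((ot_iff _ _).1 h6) (x3_sg _ _ h3 _ h5 h6))).elim
  · exact .inl fun k => of_decide_eq_true (h k)

/-- an even number of sign changes -/
theorem exists_k (s : Fin 5 → ℤ) (h1 : ∀ i, s i = 1 ∨ s i = -1) (h2 : (4 : ℤ) ∣ ∑ i, s i - 1) : ∃ k, ∀ i, s i = sg k i := by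
  have e : s = ![s 0, s 1, s 2, s 3, s 4] := by
    funext i
    fin_cases i <;> rfl
  rw [Fin.sum_univ_five] at h2
  rw [e]
  rcases h1 0 with a | a <;> rcases h1 1 with b | b <;> rcases h1 2 with c | c <;> rcases h1 3 with d | d <;> rcases h1 4 with f | f <;>
    rw [a, b, c, d, f] at h2 ⊢ <;> first | decide +kernel | exact absurd h2 (by decide)

/-- the weights span -/
theorem span (z : Fin 5 → ℤ) (h : ∀ k, ∑ i, z i * sg k i = 0) : z = 0 := by
  have h0 := h 0
  have h1 := h 1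
  have h2 := h 2
  have h3 := h 3
  have h4 := h 4
  have h8 := h 8
  simp only [Fin.sum_univ_five, (by decide +kernel : sg 0 = ![1, 1, 1, 1, 1]), (by decide +kernel : sg 1 = ![-1, 1, 1, 1, -1]),
    (by decide +kernel : sg 2 = ![1, -1, 1, 1, -1]), (by decide +kernel : sg 3 = ![-1, -1, 1, 1, 1]),
    (by decide +kernel : sg 4 = ![1, 1, -1, 1, -1]), (by decide +kernel : sg 8 = ![1, 1, 1, -1, -1])] at h0 h1 h2 h3 h4 h8
  simp at h0 h1 h2 h3 h4 h8
  funext i
  fin_cases i <;> simp <;> omega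

end Cfsg.Agent.BZ.RT.Cx.S5p
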