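import Cfsg.Agent.BZ.RT.Cx.AnJ
import Cfsg.Agent.BZ.RT.Cx.Tab
import Cfsg.Agent.BZ.RT.Ck.K1

/-!
# BZ / RT / Cx : tools for the shapes over `D₄`, `D₄ A₁`, `D₄ A₂` (helper44)
-/

set_option autoImplicit false
set_option linter.unusedSectionVars false

namespace Cfsg.Agent.BZ.RT.Cx.Sh44

open Cfsg Matrix Cfsg.Agent.DL Cfsg.Agent.HZ.L Cfsg.Agent.BZ.TA Cfsg.Agent.BZ.TA.Cl Cfsg.Agent.OM.Cu Cfsg.Agent.OM Cfsg.Agent.BZ.RT.Z2

section Gen

variable {I : Type} [Fintype I] [DecidableEq I] {C X : Mat I} {u v w : Vec I} {L : RS I} {a : Vec I × Vec I}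

/-- the form -/
def B (C : Mat I) (u v : Vec I) : ℤ := u ⬝ᵥ (v ᵥ* C)

theorem b_add (u v w : Vec I) : B C (u + v) w = B C u w + B C v w := add_dotProduct _ _ _

theorem b_sub (u v w : Vec I) : B C (u - v) w = B C u w - B C v w := sub_dotProduct _ _ _

theorem b_smul (m : ℤ) (u w : Vec I) : B C (m • u) w = m * B C u w := smul_dotProduct _ _ _

theorem b_add' (u v w : Vec I) : B C w (u + v) = B C w u + B C w v := by simp only [B, add_vecMul, dotProduct_add]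

theorem b_sub' (u v w : Vec I) : B C w (u - v) = B C w u - B C w v := by simp only [B, sub_vecMul, dotProduct_sub]

theorem b_smul' (m : ℤ) (u w : Vec I) : B C w (m • u) = m * B C w u := by simp only [B, smul_vecMul, dotProduct_smul, smul_eq_mul]

theorem b_neg' (u w : Vec I) : B C w (-u) = -B C w u := by simp only [B, neg_vecMul, dotProduct_neg]

theorem b_sym (h : Car C fun _ => 1) (u v : Vec I) : B C u v = B C v u := AnJ.sym h u v

theorem b_iso (h : Car C fun _ => 1) (hX : X ∈ Wc C) (u v : Vec I) : B C (X *ᵥ u) (X *ᵥ v) = B C u v := by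
  rw [B, B, ← E8q.fm1, ← E8q.fm1, RsP.iso h hX]

theorem b_nn (h : Car C fun _ => 1) (v : Vec I) : 0 ≤ B C v v := by
  rw [B, ← E8q.fm1]
  exact E7P.fm_nonneg h v

theorem b_zero (h : Car C fun _ => 1) (hv : B C v v ≤ 0) : v = 0 := RsP.fm_zero h (by rwa [E8q.fm1])

theorem b_dot (h : Car C fun _ => 1) (ha : a ∈ Rc C) (v : Vec I) : a.1 ⬝ᵥ v = B C a.2 v := E8q.dot' h ha v

theorem b_two (h : Car C fun _ => 1) (ha : a ∈ Rc C) : B C a.2 a.2 = 2 := by rw [← b_dot h ha, RsP.two h ha]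

theorem even (h1 : ∀ u v, B C u v = B C v u) (h2 : ∀ i, 2 ∣ C i i) (v : Vec I) : 2 ∣ B C v v := by
  induction v using Pi.single_induction with
  | zero => simp [B]
  | add u v hu hv =>
    rw [b_add, b_add', b_add', h1 v u]
    omega
  | single i m =>
    rw [B, single_dotProduct, single_vecMul]
    simpa only [Pi.smul_apply, row_apply, smul_eq_mul] using ((h2 i).mul_left m).mul_left m

theorem sym_of (h : Cᵀ = C) (u v : Vec I) : B C u v = B C v u := by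
  rw [B, B, dotProduct_comm, ← dotProduct_mulVec, ← vecMul_transpose, h]

/-- the Weyl group fixes the vector modulo three -/
theorem mod3 {g : Mat I} (hg : g ∈ WW L) (hu : ∀ b ∈ L, (3 : ℤ) ∣ b.1 ⬝ᵥ u) : ∀ z, ∃ z', g *ᵥ (u + (3 : ℤ) • z) = u + (3 : ℤ) • z' := by
  induction hg using Submonoid.closure_induction with
  | mem _ hx =>
    obtain ⟨b, hb, rfl⟩ := hx
    obtain ⟨m, hm⟩ := hu b hb
    refine fun z => ⟨z - (m + b.1 ⬝ᵥ z) • b.2, ?_⟩
    rw [RsP.rfm_mulVec, dotProduct_add, dotProduct_smul, hm, smul_eq_mul]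
    module
  | one => exact fun z => ⟨z, one_mulVec _⟩
  | mul _ _ _ _ h1 h2 =>
    intro z
    obtain ⟨z', k1⟩ := h2 z
    obtain ⟨z'', k2⟩ := h1 z'
    exact ⟨z'', by rw [← mulVec_mulVec, k1, k2]⟩

/-- an eigenvalue of order three -/
theorem eig3 (hA : An L 3 1 X) (h : X *ᵥ (X *ᵥ v) = -v - X *ᵥ v) (ha : a ∈ L) : a.1 ⬝ᵥ v = 0 := by
  obtain ⟨η, hη⟩ : ∃ η : ℂ, IsPrimitiveRoot η 3 := ⟨_, Complex.isPrimitiveRoot_exp 3 (by decide)⟩
  have h1 : η ^ 2 + η + 1 = 0 := by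
    have := hη.geom_sum_eq_zero (by decide)
    simp only [Finset.sum_range_succ, Finset.sum_range_zero] at this
    linear_combination this
  have h2 : IsE X (η ^ 2) ((fun i => ((X *ᵥ v) i : ℂ)) - η • fun i => (v i : ℂ)) := by
    rw [IsE, mulVec_sub, mulVec_smul, LamA.cast_vec, LamA.cast_vec, h]
    funext i
    simp only [Pi.sub_apply, Pi.smul_apply, Pi.neg_apply, smul_eq_mul, Int.cast_sub, Int.cast_neg]
    linear_combination (-((X *ᵥ v) i : ℂ) + (η - 1) * (v i : ℂ)) * h1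
  have h3 : ev a.1 ((fun i => ((X *ᵥ v) i : ℂ)) - η • fun i => (v i : ℂ)) = 0 := by
    by_contra k
    refine hA _ ⟨1, ?_⟩ ⟨_, h2, a, ha, k⟩
    rw [pow_one, ← pow_mul, mul_comm, pow_mul, hη.pow_eq_one, one_pow]
    exact .one
  rw [ev, dotProduct_sub, dotProduct_smul, ← ev, ← ev, LamA.ev_cast, LamA.ev_cast, smul_eq_mul] at h3
  generalize a.1 ⬝ᵥ X *ᵥ v = s at h3
  generalize a.1 ⬝ᵥ v = t at h3 ⊢
  have h4 : s ^ 2 + s * t + t ^ 2 = 0 := by
    have : ((s ^ 2 + s * t + t ^ 2 : ℤ) : ℂ) = 0 := by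
      push_cast
      linear_combination ((s : ℂ) + η * t + t) * h3 + (t : ℂ) ^ 2 * h1
    exact_mod_cast this
  nlinarith [sq_nonneg (2 * s + t), sq_nonneg t]

end Gen

variable {n : ℕ} {μ u v w : Vec (Fin n)} {X g : Mat (Fin n)} {G : Submonoid (Mat (Fin n))} {Φ : RS (Fin n)} {a b : Vec (Fin n) × Vec (Fin n)}

instance decDn (n : ℕ) : DecidablePred (Dn n) := fun _ => by unfold Dn; infer_instance

/-- twice the inverse of the Cartan matrix of `D₄` -/
def Pj (n : ℕ) : Mat (Fin n) := of fun i j =>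
  if Dn n i ∧ Dn n j then if (i : ℕ) = 2 ∧ (j : ℕ) = 2 then 4 else if (i : ℕ) = 2 ∨ (j : ℕ) = 2 ∨ i = j then 2 else 1 else 0

/-- the check -/
abbrev Ok (n : ℕ) : Prop := (∀ i j, Pj n j i - Pj n i j = 0) ∧ (∀ i, Pj n i i % 2 = 0) ∧ (∀ j i, ¬ Dn n i → Pj n j i + 0 = 0) ∧
  (∀ j i, Dn n i → (Pj n * En n) j i = if j = i then 2 else 0) ∧ ∀ j i, Dn n i → ¬ Dn n j → 5 ≤ (j : ℕ) → n = 8 → En n j i + 0 = 0

theorem ok (hn : R3 n) : Ok n := by rcases hn with rfl | rfl | rfl <;> refine ⟨?_, ?_, ?_, ?_, ?_⟩ <;> decide +kernel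

/-- support in `D₄` -/
def Sd (v : Vec (Fin n)) : Prop := ∀ i, ¬ Dn n i → v i = 0

/-- orthogonal to `D₄` -/
def Od (v : Vec (Fin n)) : Prop := ∀ i, Dn n i → (v ᵥ* En n) i = 0

/-- support in the other nodes of the Levi subsystem -/
def Sn (μ v : Vec (Fin n)) : Prop := ∀ i, Dn n i ∨ ¬ Jz (En n) μ i → v i = 0

theorem so (h1 : Sd u) (h2 : Od v) : B (En n) u v = 0 :=
  show ∑ i, u i * (v ᵥ* En n) i = 0 from Finset.sum_eq_zero fun i _ => by
    by_cases k : Dn n i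
    · rw [h2 i k, mul_zero]
    · rw [h1 i k, zero_mul]

theorem no (hn : R3 n) (hJ : J4 n μ) (h : Sn μ v) : Od v := fun i hi =>
  show ∑ j, v j * En n j i = 0 from Finset.sum_eq_zero fun j _ => by
    by_cases k : Dn n j ∨ ¬ Jz (En n) μ j
    · rw [h j k, zero_mul]
    · rw [not_or, not_not] at k
      obtain ⟨k1, k2⟩ := (hJ.2 j k.2).resolve_left k.1
      rw [(add_zero _).symm.trans ((ok hn).2.2.2.2 j i hi k.1 k2 k1), mul_zero]

theorem Od.add (h1 : Od u) (h2 : Od v) : Od (u + v) := fun i hi => by rw [add_vecMul, Pi.add_apply, h1 i hi, h2 i hi, add_zero]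

theorem Od.sub (h1 : Od u) (h2 : Od v) : Od (u - v) := fun i hi => by rw [sub_vecMul, Pi.sub_apply, h1 i hi, h2 i hi, sub_zero]

/-- twice the projection -/
theorem proj (hn : R3 n) (v : Vec (Fin n)) : ∃ u, Sd u ∧ Od ((2 : ℤ) • v - u) ∧ 2 ∣ B (En n) u v := by
  obtain ⟨h1, h2, h3, h4, -⟩ := ok hn
  refine ⟨(v ᵥ* En n) ᵥ* Pj n, fun i hi => show ∑ j, (v ᵥ* En n) j * Pj n j i = 0 from
    Finset.sum_eq_zero fun j _ => by rw [(add_zero _).symm.trans (h3 j i hi), mul_zero], fun i hi => ?_, ?_⟩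
  · rw [sub_vecMul, smul_vecMul, vecMul_vecMul (v ᵥ* En n), Pi.sub_apply, Pi.smul_apply, sub_eq_zero]
    generalize v ᵥ* En n = w
    rw [vecMul, dotProduct, Finset.sum_congr rfl fun j _ => congrArg (w j * ·) (h4 j i hi)]
    simp [mul_comm]
  · rw [B, dotProduct_comm]
    exact even (sym_of (ext fun i j => sub_eq_zero.1 (h1 i j))) (fun i => Int.dvd_of_emod_eq_zero (h2 i)) _

/-- the roots of the Levi subsystem -/
theorem dich (hn : R3 n) (hJ : J4 n μ) (hd : Dom (En n) μ) (ha : a ∈ lev (Rc (En n)) μ) : Sd a.2 ∨ Sn μ a.2 := by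
  have hC := AnJ.car hn
  have h0 := (ParT.zero_iff hC hd ha.1).1 ha.2
  obtain ⟨x, x1⟩ : ∃ x : Vec (Fin n), ∀ i, x i = if Dn n i then a.2 i else 0 := ⟨_, fun _ => rfl⟩
  have h1 : Sd x := fun i hi => by rw [x1, if_neg hi]
  have h2 : Sn μ (a.2 - x) := fun i hi => by
    by_cases k : Dn n i
    · rw [Pi.sub_apply, x1, if_pos k, sub_self]
    · rw [Pi.sub_apply, x1, if_neg k, h0 i (hi.resolve_left k), sub_zero]
  have h3 := so h1 (no hn hJ h2)
  have h4 := b_two hC ha.1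
  have h5 := b_nn hC x
  have h6 := b_nn hC (a.2 - x)
  have h7 := even (b_sym hC) (fun i => hC.diag i ▸ dvd_rfl) x
  by_cases k : B (En n) x x ≤ 0
  · exact .inr (by rwa [b_zero hC k, sub_zero] at h2)
  refine .inl ((sub_eq_zero.1 (b_zero hC (v := a.2 - x) ?_)) ▸ h1)
  rw [b_sub'] at h3
  rw [b_sub, b_sub', b_sub', b_sym hC a.2 x]
  omega

/-- the vectors which are orthogonal to `D₄` -/
theorem inv (hn : R3 n) (hJ : J4 n μ) (hd : Dom (En n) μ) (hg : g ∈ WW (lev (Rc (En n)) μ)) : ∀ v, Od v → Sn μ (g *ᵥ v - v) := by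
  induction hg using Submonoid.closure_induction with
  | mem _ hx =>
    obtain ⟨b, hb, rfl⟩ := hx
    intro v hv i hi
    rw [RsP.rfm_mulVec, sub_sub_cancel_left, Pi.neg_apply, Pi.smul_apply, b_dot (AnJ.car hn) hb.1]
    rcases dich hn hJ hd hb with k | k
    · rw [so k hv, zero_smul, neg_zero]
    · rw [k i hi, smul_zero, neg_zero]
  | one => exact fun v _ i _ => by rw [one_mulVec, sub_self, Pi.zero_apply]
  | mul g g' _ _ h1 h2 =>
    intro v hv i hi
    have k := h1 _ (hv.add (no hn hJ (h2 v hv))) i hi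
    rw [add_sub_cancel] at k
    rw [← mulVec_mulVec, ← sub_add_sub_cancel _ (g' *ᵥ v), Pi.add_apply, k, h2 v hv i hi, add_zero]

theorem inv' (hn : R3 n) (hJ : J4 n μ) (hd : Dom (En n) μ) (hg : g ∈ WW (lev (Rc (En n)) μ)) (hv : Od v) : Od (g *ᵥ v) := by
  have := hv.add (no hn hJ (inv hn hJ hd hg v hv))
  rwa [add_sub_cancel] at this

theorem eight (hJ : J4 n μ) (h : Sn μ v) (h0 : v ≠ 0) : n = 8 := by
  by_contra k
  exact h0 (funext fun i => h i (by_contra fun e => by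
    rw [not_or, not_not] at e
    exact k ((hJ.2 i e.2).resolve_left e.1).1))

/-- the lattice `A₂` -/
def V (x y : ℤ) : Vec (Fin 8) := x • Pi.single 5 1 + y • Pi.single 6 1

theorem v5 (x y : ℤ) : V x y 5 = x := by simp [V]

theorem v6 (x y : ℤ) : V x y 6 = y := by simp [V]

theorem b_V (x y : ℤ) (w : Vec (Fin 8)) : B (En 8) (V x y) w = x * (w ᵥ* En 8) 5 + y * (w ᵥ* En 8) 6 := by
  rw [V, b_add, b_smul, b_smul, B, B, single_dotProduct, single_dotProduct, one_mul, one_mul]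

theorem b_VV (x y x' y' : ℤ) : B (En 8) (V x y) (V x' y') = x * (2 * x' - y') + y * (2 * y' - x') := by
  rw [b_V, ← RsP.sp_dot, ← RsP.sp_dot, (Rk88.dot8 _).2.2.2.2.2.1, (Rk88.dot8 _).2.2.2.2.2.2.1, v5, v6, show V x' y' 4 = 0 by simp [V],
    sub_zero]

theorem eq_V {μ v : Vec (Fin 8)} (hJ : J4 8 μ) (h : Sn μ v) : v = V (v 5) (v 6) := funext fun i => by
  by_cases k5 : i = 5
  · rw [k5, v5]
  by_cases k6 : i = 6
  · rw [k6, v6]
  rw [show V (v 5) (v 6) i = 0 by simp [V, k5, k6]]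
  refine h i (by_contra fun e => ?_)
  rw [not_or, not_not] at e
  have := ((hJ.2 i e.2).resolve_left e.1).2
  have := e.1
  unfold Dn at this
  omega

theorem sn_V {μ : Vec (Fin 8)} (h5 : Jz (En 8) μ 5) (h6 : Jz (En 8) μ 6) (x y : ℤ) : Sn μ (V x y) := fun i hi => by
  have k5 : i ≠ 5 := by
    rintro rfl
    exact hi.elim (by decide) fun e => e h5
  have k6 : i ≠ 6 := by
    rintro rfl
    exact hi.elim (by decide) fun e => e h6
  simp [V, k5, k6]

end Cfsg.Agent.BZ.RT.Cx.Sh44
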